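import Mathlib.Data.List.Range

/-!
# Words reaching the suborbit points
-/

set_option autoImplicit false

namespace Cfsg.Agent.McLSimple

/-- Generators fixing two points. -/
def orbGens : List (List Nat) := [
  [0,2,4,6,8,10,12,14,16,18,20,22,1,3,5,7,9,11,13,15,17,19,21,23],
  [0,3,20,7,2,5,8,14,17,4,19,13,9,12,10,1,6,21,22,15,11,18,16,23],
  [0,12,1,13,2,14,3,15,4,16,5,17,6,18,7,19,8,20,9,21,10,22,11,23],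
  [0,15,4,1,9,5,16,3,6,12,14,20,13,11,7,19,22,8,21,10,2,17,18,23],
  [0,6,16,2,21,20,17,13,15,18,8,1,11,22,12,4,9,3,14,7,19,5,10,23],
  [0,18,12,21,5,19,10,7,14,8,1,16,17,4,20,11,13,9,22,15,2,6,3,23],
  [0,4,20,9,21,5,10,22,19,18,7,3,1,13,16,17,15,14,11,8,2,12,6,23],
  [0,21,22,6,18,16,14,2,5,1,12,17,4,8,9,15,7,10,19,11,3,20,13,23],
  [0,4,7,17,9,18,16,11,15,14,3,1,5,10,2,22,13,20,8,12,6,21,19,23]]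

/-- The base point. -/
def baseZero : List Int := [0,2,0,0,0,0,0,0,0,0,0,0,2,2,2,2,2,0,0,2,0,0,2,0]

/-- Words. -/
def wordsZero0 : List (List Nat) := [
  [8,0,4],
  [8,8,4],
  [6,7,0],
  [2,1,2],
  [3,2,6],
  [1,4,0],
  [5,6],
  [5,7,5],
  [7,8,4],
  [6,2,5],
  [3],
  [7,2,8],
  [2,7,5],
  [6,3,2],
  [8,7,3],
  [3,7,2],
  [5,4,0],
  [3,0,3],
  [7,7],
  [6,2,4],
  [2,8,7],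
  [6,2,1],
  [6,7,3],
  [3,8],
  [3,4,1],
  [7,1,7],
  [1,4,1],
  [1,5,2],
  [2,8,4],
  [7,7,1],
  [4,6,1,0],
  [8,4,3],
  [6,1],
  [3,2,1],
  [8,3,0],
  [2,1,0,0],
  [8,8,1],
  [6,1,1],
  [5,6,0],
  [6,2,6],
  [7,6,0],
  [0,4],
  [7,2,2],
  [8,4],
  [2,6,5],
  [3,3],
  [3,6,2],
  [1,7,3],
  [6,4,7],
  [3,4,0],
  [1,1,2],
  [2,2,2,1],
  [3,2,5],
  [0,3],
  [2,6],
  [5,8,7],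
  [0,7,2],
  [8,6,2],
  [5,7,2],
  [1,2],
  [3,8,3],
  [1,8,0,0],
  [7,3,2,1],
  [6,7,2],
  [6,3,0],
  [4,4],
  [2,2],
  [2,8,6],
  [7,0,1],
  [7,8],
  [5],
  [7,0],
  [5,1],
  [1,2,1],
  [7,5],
  [4,7,7],
  [1,0,0],
  [5,2,5],
  [6,8,0],
  [5,3,0,0],
  [5,1,1,1],
  [5,5],
  [2,7,0],
  [7,0,0],
  [8,7],
  [6,2],
  [4,8],
  [1,8,3],
  [8,7,6],
  [7,2],
  [0,4,3],
  [4,0,0,0],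
  [1,8,2],
  [4,4,2],
  [7,3],
  [1,1,4],
  [6,7,8],
  [3,8,1],
  [2,3],
  [3,2]]

/-- Words. -/
def wordsZero1 : List (List Nat) := [
  [4],
  [7,1,2],
  [2,4,4],
  [1,1,6],
  [8,6,1],
  [2,6,1],
  [8,1,6],
  [2,7,3],
  [2,4,0],
  [2,6,4],
  [1,5,3],
  [7,6,3],
  [8,3],
  [4,0],
  [2,6,6],
  [4,7,4],
  [4,4,1],
  [0,0,4],
  [6,8,2,1],
  [2,1,0],
  [8,2,3],
  [2,2,7],
  [2,8,0,0],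
  [4,3,3],
  [0,3,8],
  [5,7,1],
  [6,5],
  [0,3,0],
  [6,4],
  [6,4,3],
  [2,2,4],
  [6,2,7],
  [8,2],
  [1,4,4],
  [2],
  [2,7,1],
  [6,3,3,0],
  [0,4,0],
  [2,8,1],
  [6,1,2],
  [1,2,3],
  [7,7,2],
  [6,4,0],
  [4,7,1,0],
  [0,5],
  [1,2,7],
  [2,3,5],
  [5,6,1],
  [6],
  [8,2,1],
  [8,0,5],
  [0,7,0],
  [6,6,2],
  [0,0,3],
  [4,8,7],
  [3,0,0],
  [2,3,0],
  [0,4,1],
  [1,8,0],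
  [0,0,0,0],
  [3,6],
  [3,4,2],
  [2,4,1],
  [5,5,1],
  [6,4,1],
  [8,2,8],
  [2,5,0,0],
  [0,5,1],
  [3,3,4],
  [2,8,0,1],
  [3,5,2],
  [4,2,3,0],
  [2,2,1],
  [6,6],
  [4,2],
  [8,2,7],
  [0],
  [8,8,2],
  [3,6,6],
  [8,6],
  [1,7],
  [0,1],
  [1,4],
  [5,2,2],
  [4,5,7,1],
  [8,0,0],
  [0,5,2],
  [4,0,1],
  [7,6,7],
  [3,4,7,0],
  [1,1,1],
  [8,1,5],
  [4,1,2],
  [1,0],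
  [4,4,8,0],
  [2,7],
  [5,5,3],
  [0,7,5],
  [0,6,4],
  [2,2,5]]

/-- Words. -/
def wordsZero2 : List (List Nat) := [
  [7,5,2],
  [4,5,1],
  [4,8,0],
  [0,1,2],
  [8,6,3],
  [7,1,4],
  [1,0,1],
  [1,1],
  [2,6,0],
  [5,7],
  [8,2,6],
  [3,3,2],
  [5,3,2],
  [6,5,7],
  [5,4,2],
  [5,1,1],
  [6,1,0],
  [7,8,5],
  [7,6],
  [6,5,1],
  [6,0,0],
  [8,1],
  [4,1,0],
  [1,6],
  [4,1,4,1],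
  [3,6,5],
  [8,5,2],
  [1,4,0,1],
  [4,3],
  [2,4],
  [3,6,8],
  [1,2,4],
  [5,8,0,1],
  [8,5],
  [7],
  [4,8,2],
  [7,7,4],
  [5,2,4],
  [4,3,6],
  [2,5,5],
  [7,6,6],
  [3,0],
  [1,7,4],
  [8,1,2],
  [5,1,2],
  [6,6,1],
  [3,7,0],
  [3,4,4],
  [4,6,1],
  [8],
  [],
  [6,6,5],
  [8,4,0],
  [3,6,1],
  [3,0,1,0],
  [1,8,1],
  [6,8,3],
  [1,2,5],
  [1],
  [6,8],
  [1,1,5,1],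
  [7,1],
  [8,5,1],
  [4,5,3],
  [3,2,3],
  [8,2,2],
  [4,8,3],
  [6,7],
  [0,0,5],
  [2,5],
  [6,2,2],
  [3,4],
  [4,7,0],
  [2,8,3],
  [8,3,3],
  [0,1,0],
  [0,6],
  [4,4,0],
  [7,7,0],
  [5,4,5],
  [1,6,3],
  [4,1],
  [0,8,8,0],
  [3,2,2],
  [3,7],
  [0,0,0],
  [5,2],
  [3,5],
  [4,2,2],
  [1,8],
  [8,0,1],
  [4,7,6],
  [0,1,7],
  [7,8,7],
  [1,7,0],
  [0,6,0],
  [4,7],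
  [6,3],
  [0,1,1],
  [0,0]]

/-- Words. -/
def wordsZero3 : List (List Nat) := [
  [8,8,0],
  [3,3,0],
  [8,4,2],
  [5,6,3],
  [8,6,0],
  [7,4,1],
  [2,8],
  [6,6,3],
  [4,7,3],
  [2,6,3],
  [3,0,4],
  [6,0,3],
  [7,4],
  [1,5,1],
  [5,3],
  [1,2,4,1],
  [6,0],
  [5,0,0],
  [4,5],
  [1,5],
  [2,1],
  [6,3,7,0],
  [7,2,1],
  [7,1,0],
  [0,4,2],
  [0,5,0,0],
  [7,4,8,0],
  [2,5,3],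
  [0,0,1],
  [8,0]]

/-- All words, sorted by the points reached. -/
def wordsZero : List (List Nat) :=
  wordsZero0 ++ wordsZero1 ++ wordsZero2 ++ wordsZero3

/-- The base point. -/
def baseTwo : List Int := [-2,0,0,0,0,0,0,0,0,0,0,0,-2,0,2,0,2,2,2,0,0,0,2,2]

/-- Words. -/
def wordsTwo0 : List (List Nat) := [
  [8,2,6],
  [3,4,4],
  [4,3,4],
  [5,7,0],
  [7,1],
  [6,7,4],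
  [4,5,2],
  [3,2,3],
  [7,6,1],
  [5,0,0],
  [2,4,2],
  [6,0],
  [8,8],
  [7,6,6,1],
  [1,0,3],
  [0,6],
  [4,7],
  [7,8,7],
  [5,6,3],
  [1,8,1],
  [4,1,8],
  [8,6],
  [6,6,2],
  [5,8,1,0],
  [7,8,0],
  [1,2,3],
  [6],
  [7,6,5],
  [1,5,6,0],
  [4,0,7],
  [2,4,7],
  [7,7,0,0],
  [0,8],
  [3,8,8,0],
  [2,6,0],
  [2,8,8],
  [1,0,1],
  [6,2,2],
  [2,4,3,0],
  [5,5],
  [7,6,3],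
  [3,7,7,1],
  [7,0,0],
  [7,3,4,0],
  [0,6,4],
  [8,0],
  [0,4,0,0],
  [4,4,4,1],
  [7,4,5],
  [5,3,8],
  [8],
  [5,1,2],
  [7,4,2],
  [3,8,0,0],
  [4,0,4],
  [2,6],
  [2,8,6],
  [6,3,0],
  [2,2,1,0],
  [4,6,1,0],
  [1,8,8],
  [0,8,7],
  [4,4],
  [2,8,4],
  [1,8,6],
  [8,8,0],
  [2,8,0],
  [3,6,8],
  [8,3,5],
  [0,8,4],
  [3,5,0,0],
  [3,0,6],
  [3,8],
  [5,4,2],
  [6,5,1],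
  [6,6,1],
  [0,8,8],
  [7],
  [8,5,1],
  [2,7,3],
  [3,8,4],
  [8,0,4],
  [8,0,0],
  [0,1,0],
  [2,3,2],
  [3,7,6],
  [2,6,2],
  [8,0,7],
  [1,6,1],
  [6,0,4],
  [8,7,3],
  [4,5],
  [4,7,1],
  [5,8,5],
  [1,7,3],
  [8,0,1],
  [1,4,1,0],
  [4,5,7],
  [1,8,7],
  [5,1,4]]

/-- Words. -/
def wordsTwo1 : List (List Nat) := [
  [0,7,4],
  [4,4,3],
  [0,0,4],
  [8,7,1],
  [6,3,6,0],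
  [2,8,0,1],
  [3,7,4],
  [3,6,3],
  [6,3,2,2],
  [1,8,0,0],
  [3,8,4,0],
  [1,2,1,0],
  [5,3,0],
  [0,5,1],
  [6,0,0],
  [6,5,2],
  [7,6],
  [5,6,1],
  [8,4,6,0],
  [7,3],
  [8,2,4,0],
  [4,1,1],
  [2,1,0],
  [4,5,3],
  [8,8,4],
  [0,5],
  [4,4,7],
  [0,7],
  [6,8,4],
  [4,1,0],
  [5,2,3],
  [6,7,0],
  [3,0],
  [6,0,8],
  [2,3,7],
  [0,4,5],
  [5,4,1],
  [3,0,3],
  [4,3,5],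
  [5,2],
  [6,6],
  [0,0],
  [5,7,2],
  [5,1],
  [2,8],
  [4],
  [3,0,6,0],
  [4,6,0,0],
  [0,7,1],
  [0,4,3],
  [5],
  [2,4,1,1],
  [6,2],
  [2,4],
  [5,5,8],
  [3,2],
  [0,3,2],
  [2,5,1],
  [0,6,2],
  [1,2,7],
  [1,7,2],
  [4,3,0],
  [3,7,0],
  [8,0,3],
  [6,0,1],
  [0,4],
  [8,2,8,0],
  [1,6,3],
  [5,1,0,0],
  [7,4,0],
  [6,2,6],
  [2,1,7],
  [5,0,6],
  [7,2,6],
  [1,4,7],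
  [1,6],
  [2,4,8],
  [7,1,4],
  [4,0,3,0],
  [2,3,5,2],
  [6,1],
  [8,4,5],
  [2,8,1],
  [4,1],
  [5,8,0,1],
  [3,4,1],
  [7,7,6],
  [2,7,0],
  [4,8,0],
  [3,4,0],
  [3,6,1],
  [7,0,1],
  [1,5,5],
  [8,2,4],
  [1,8],
  [5,6,3,0],
  [4,0],
  [2,5,4],
  [0,7,6],
  [8,1,2]]

/-- Words. -/
def wordsTwo2 : List (List Nat) := [
  [4,4,7,1],
  [5,6],
  [3,2,7],
  [0,0,1],
  [4,5,1],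
  [4,6,3],
  [0,5,3,0],
  [8,5],
  [5,3,6,0],
  [4,8,7],
  [3,7,1,0],
  [1,4,0,0],
  [7,8,5],
  [3,3],
  [8,8,8],
  [2,2,3],
  [5,0,1],
  [7,1,1],
  [3,7],
  [0,1,2],
  [7,8],
  [5,7,1],
  [3,8,6],
  [7,5,2],
  [1,0],
  [7,0,4],
  [4,3,3],
  [5,8,0],
  [8,7,6],
  [7,5,2,3],
  [2,6,6],
  [6,6,0],
  [0],
  [8,7],
  [4,8,4,0],
  [6,7,1],
  [6,2,5],
  [0,8,0],
  [3,3,6,1],
  [2,4,0],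
  [6,0,3,0],
  [1,7],
  [0,0,5],
  [3,4,3],
  [7,7,4],
  [3,2,5],
  [8,4],
  [7,5,1],
  [7,4,4],
  [1,2],
  [7,6,6],
  [1,1,6,2],
  [6,0,7],
  [4,7,0],
  [4,7,2],
  [5,5,1,0],
  [2,4,1],
  [5,6,1,0],
  [2,6,1],
  [5,2,5],
  [5,4,3],
  [0,3,5],
  [7,2,2],
  [0,3,0],
  [7,6,0],
  [4,5,6],
  [0,0,0],
  [5,8,1],
  [6,8,6],
  [6,6,2,3],
  [5,0,6,1],
  [6,3,7],
  [0,5,2],
  [0,6,6],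
  [5,5,5],
  [0,7,0,0],
  [8,1,0],
  [4,3,7],
  [0,1,6],
  [4,8],
  [6,5],
  [3,5,2],
  [5,8,7,1],
  [1,2,8],
  [3,6],
  [0,6,1],
  [4,7,3],
  [3,3,0],
  [4,3,2],
  [0,7,2],
  [7,8,4],
  [1,6,2],
  [6,2,3],
  [2,2,5],
  [3,2,1,0],
  [3,0,5],
  [1,8,0],
  [0,6,0],
  [4,5,6,0],
  [1,2,4]]

/-- Words. -/
def wordsTwo3 : List (List Nat) := [
  [2],
  [0,4,0],
  [4,1,2],
  [8,8,1],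
  [0,1,8],
  [0,1,0,0],
  [4,2],
  [1,4],
  [0,0,8,1],
  [2,4,4,1],
  [6,8,7],
  [2,6,7],
  [5,0,5],
  [4,0,3],
  [4,6,2],
  [8,6,1,0],
  [0,8,5],
  [5,3],
  [8,1],
  [4,0,4,0],
  [6,1,4],
  [1,2,2],
  [5,5,6,0],
  [0,4,1],
  [3,5,8],
  [7,0,6],
  [1,1],
  [5,8,7,0],
  [4,4,1,0],
  [7,6,6,0],
  [7,1,2],
  [3,0,0],
  [6,3,4],
  [8,1,4],
  [1,2,6,1],
  [0,0,6],
  [5,7,6],
  [4,3,8],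
  [1,4,3,0],
  [5,8,3],
  [7,0],
  [8,0,4,0],
  [2,2,7],
  [6,3,3,0],
  [3,7,3],
  [8,1,1],
  [7,1,0],
  [8,5,3],
  [0,5,6],
  [5,7],
  [8,3],
  [0,0,0,1],
  [5,4],
  [8,8,3],
  [2,3],
  [5,4,0,0],
  [1,8,7,2],
  [1,4,4],
  [8,0,8],
  [3,5,3],
  [4,7,1,0],
  [7,3,5],
  [2,7],
  [3,5],
  [7,7,0],
  [3,2,2],
  [6,0,1,0],
  [3,4,3,0],
  [7,8,4,0],
  [0,1],
  [6,6,0,0],
  [1,0,8],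
  [4,0,0],
  [0,3],
  [4,3],
  [1,4,0],
  [3,0,4],
  [1,8,4],
  [3,6,2],
  [3,3,2],
  [7,4,3],
  [7,7,1],
  [5,8,1,1],
  [7,4],
  [5,7,1,0],
  [6,3],
  [8,2,2],
  [4,8,8],
  [3,8,5],
  [2,8,5],
  [3,5,0,3],
  [6,3,4,0],
  [6,8],
  [4,5,5],
  [5,0,8],
  [2,5],
  [8,4,1],
  [6,8,3],
  [0,1,4],
  [5,5,1]]

/-- Words. -/
def wordsTwo4 : List (List Nat) := [
  [4,0,1,0],
  [2,1,2],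
  [1,7,0],
  [5,6,5,1],
  [1,5,4],
  [3,3,3],
  [4,4,5],
  [6,5,3],
  [5,0,3],
  [1,2,5],
  [8,7,2],
  [7,4,1],
  [5,3,5],
  [],
  [1,0,6],
  [1,5,2],
  [7,3,0],
  [1,5,3,0],
  [8,4,0],
  [5,5,2],
  [7,2],
  [0,8,1],
  [1,0,0],
  [8,5,6],
  [8,1,6],
  [2,2],
  [4,4,1],
  [5,6,0],
  [6,4],
  [8,4,8,0],
  [3,4],
  [5,7,3],
  [0,5,4],
  [4,6,0],
  [7,2,6,2],
  [4,2,2],
  [6,7],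
  [2,6,5,1],
  [8,3,3],
  [3,6,0],
  [1,7,6],
  [4,6,1],
  [3,7,6,0],
  [4,8,1,1],
  [7,3,7],
  [6,2,8],
  [5,1,1],
  [5,5,3],
  [1,0,4],
  [7,2,6,0],
  [8,7,0],
  [3],
  [5,8,0,0],
  [1],
  [4,1,4,0],
  [6,5,0,0],
  [8,6,5],
  [5,8],
  [3,7,4,0],
  [6,1,0],
  [5,1,0],
  [8,3,0,0]]

/-- All words, sorted by the points reached. -/
def wordsTwo : List (List Nat) :=
  wordsTwo0 ++ wordsTwo1 ++ wordsTwo2 ++ wordsTwo3 ++ wordsTwo4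

/-- The base point. -/
def baseOne : List Int := [-1,1,3,1,1,1,1,1,1,1,1,1,1,-1,-1,-1,-1,-1,1,1,-1,1,1,1]

/-- Words. -/
def wordsOne0 : List (List Nat) := [
  [7,7,8],
  [2,8,4,4],
  [8,4,2],
  [5,0,6,3],
  [7,4,1],
  [6,0,4,3],
  [1,2,8],
  [4,4,0],
  [3,8,0],
  [0,6,5],
  [4,7,5],
  [0,8,8,7],
  [1,1,1,5],
  [2,2,2],
  [0,0,3,0],
  [5,1,0],
  [2,1,7,0],
  [7,8,3],
  [2,5,8],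
  [1,6,0,1],
  [8,2,7],
  [0,4,3,2],
  [5,2,4,1],
  [6,1,8],
  [2,2,3,0],
  [2,7],
  [0,5,7],
  [1,2,3,3],
  [5,6,6,0],
  [6,2,8],
  [5,8,4,2],
  [6,3],
  [3,7,0],
  [5,0,3],
  [5,0,3,6],
  [8,6,5],
  [5,4,8,0],
  [8,8,3],
  [7,1,5],
  [4,6,5,0],
  [7,7,1,2],
  [7,8,1,0],
  [5,8],
  [2,6,1,0],
  [4,6,2],
  [1,7,0],
  [6,0,1,2],
  [8,0,3,0],
  [2,1,6],
  [2,1],
  [4,0,0],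
  [2,7,8,0],
  [4,6,3,2],
  [2,3,0],
  [7],
  [2,6,8],
  [8,4,4],
  [7,2,1,1],
  [5,1,4],
  [7,4,3,0],
  [1,1,7],
  [8,5,7],
  [2,7,7,0],
  [8,1,8,1],
  [2,4,3],
  [1,7,1],
  [8,4,5,0],
  [6,4,2],
  [3,4,1,0],
  [5,1,1],
  [0,7,8,3],
  [4,4,7,2],
  [6,3,6],
  [0,0,5,7],
  [1,5,8,0],
  [2,7,6],
  [1,6,3,0],
  [0,8,3],
  [0,4,4],
  [6,6,3],
  [7,2,7,0],
  [3,7,2,3],
  [7,5,2,1],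
  [0,0,1],
  [8,2,1,0],
  [8,2,5,3],
  [3,4,5],
  [6,6,4,0],
  [3,4,7,2],
  [4,0],
  [2,3],
  [4,2,7],
  [6,7,3,0],
  [3,5,0,3],
  [4,0,5,1],
  [4,6,7,4],
  [7,5,0,0],
  [3,3,0,1],
  [4,8,8,2],
  [0,7,0]]

/-- Words. -/
def wordsOne1 : List (List Nat) := [
  [4,7,3],
  [4,4,4],
  [5,0,1,1],
  [3,4,6],
  [3,4],
  [4,4,1],
  [5,5,8,7],
  [6,1,0],
  [0,5,6,0],
  [3,8,1],
  [7,4,8,0],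
  [4,6,0],
  [3,5,5,2],
  [3,7,1],
  [5,7,0,3],
  [4,6,0,5],
  [1,5,7,0],
  [3,7,3,0],
  [7,2,3,3],
  [8,8,5],
  [3,3,0,0],
  [0,0,5],
  [6,7,2,2],
  [0,6,4,3],
  [1,5],
  [4,3,2,2],
  [1,5,6],
  [5,8,2],
  [1,7,2],
  [6,3,2,1],
  [3,2,7,3],
  [2,1,4,1],
  [8,7,2,2],
  [6,5,3],
  [8,7,3,0],
  [7,0,1,0],
  [2,3,7,2],
  [8,6,0],
  [3,4,2,1],
  [3,8,4],
  [1,2,1],
  [1,4,0,0],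
  [8,5,6],
  [5,7,3,5],
  [1,2,5],
  [5,6,8],
  [0,3,3,0],
  [8,5],
  [8,4,1],
  [5,2,7,1],
  [3,2,2,6],
  [3,0],
  [4,8,2],
  [7,3,7,2],
  [0,7],
  [5,0,4],
  [8,7,1,6],
  [2,8,0,1],
  [0,0,0],
  [0,0,7,1],
  [3,5,4,1,0],
  [0,8,2,1],
  [1,7,8,1],
  [5,5,0,1],
  [0,8,7],
  [4,3,8,6],
  [6,0,5],
  [5,6,2],
  [8,8,1,2],
  [3,6,2],
  [1,0,5,0],
  [0,5,3],
  [1,6],
  [1],
  [0,4,0,0],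
  [6,5,1,0],
  [8,3,4,1],
  [1,5,8,3],
  [2,5,4,2],
  [4,7,8,2],
  [8,1,0,0],
  [3,2,2],
  [6,8],
  [7,1,4,1],
  [3,7,5],
  [2,7,7,3],
  [6,0,0,3],
  [8,0],
  [7,7,5],
  [2,8,5,0],
  [8,3,6,0],
  [4,1,0],
  [8,0,6],
  [1,1,8],
  [0,4,8,0],
  [2,2,7,0],
  [6,7,6],
  [2,5,5],
  [8,3,3],
  [6,7]]

/-- Words. -/
def wordsOne2 : List (List Nat) := [
  [6,7,7,0,0],
  [8,1],
  [2,3,4,1],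
  [4,1,6,0],
  [8,1,6],
  [8,7,7],
  [2,2],
  [1,1,4,2],
  [2,2,6],
  [8,2,3,2],
  [5,4,1,0],
  [4,2,2],
  [7,2,6,3],
  [3,2,8,5],
  [0,1,2,8],
  [6,6,5,3],
  [3,4,5,0],
  [1,0,0,0],
  [4,3,8,1],
  [7,7,7,2],
  [2,7,2],
  [2,5,6],
  [1,8,7,0],
  [5,3,3],
  [3,5,2,1],
  [8,4,0],
  [5,2,6],
  [5,2],
  [5,2,2,4],
  [2,5,7,1],
  [8,4,7,1],
  [0,1,8,0],
  [5,7,3],
  [7,0,1,2],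
  [6,5,0],
  [0,3],
  [5,4,4],
  [3,5,3,4],
  [6,5,1,1],
  [4,1,1],
  [8,0,5,3],
  [6,2,4,1],
  [0,5,4],
  [5,5,7,0],
  [5,0,8],
  [6,6,3,5],
  [1,1,6,0],
  [8,6,0,8],
  [5,5,5,4],
  [5,7,6,0],
  [1,8],
  [1,8,6],
  [4,3,5],
  [5,7,4],
  [3,8,6,0],
  [8,6,8],
  [8,4,8,2],
  [8,0,7],
  [1,2,8,7],
  [8,3,0],
  [0,8,7,0],
  [0,0,6,0],
  [5,7,1,1],
  [0,1,4],
  [6,8,7,0],
  [8,3,0,0],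
  [4,3],
  [1,6,5,1],
  [3,5,1],
  [1,6,8,1],
  [6,7,5],
  [3,2,8],
  [7,3,7],
  [6,0,4,1],
  [3,6,6,2],
  [0,6,3],
  [1,7,4],
  [6,1,1],
  [4,3,2,1],
  [4,4,8],
  [2,5,7,0],
  [4,2,4,0],
  [2,7,6,5],
  [7,7,0],
  [6,8,5],
  [6,7,1,0],
  [1,2,4],
  [8,3,4,0],
  [2,5],
  [2,7,3,0],
  [5,1,2],
  [0,3,6],
  [4,4,6,0],
  [4,5,3],
  [6,3,5],
  [4,7,1,2],
  [3,3,4,4],
  [0,3,8,0],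
  [7,4,7],
  [6,2,2]]

/-- Words. -/
def wordsOne3 : List (List Nat) := [
  [5,0,7],
  [1,4,2],
  [7,3,5],
  [5,4,1],
  [3,4,2,2],
  [5,7,4,2],
  [0,1,0],
  [7,8,0],
  [1,0,5,4],
  [6,2,8,2],
  [4,1,0,7],
  [3,6,3],
  [0,5,1,1],
  [7,2,5,1],
  [0,0,4,0],
  [0,4,1,7],
  [8,0,0,0],
  [6,5,0,0],
  [6,5,6,0],
  [6,1,5],
  [6,6,0],
  [8,6,6,0],
  [7,7,4],
  [0,7,4,0],
  [4,0,8,4],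
  [2,4,5,0],
  [1,0,5,1],
  [4,4,5],
  [0,4,7],
  [4,3,4,3],
  [0,5,4,2],
  [3,4,3,0],
  [3,8,5],
  [7,6],
  [8,7,3],
  [7,0,4,4],
  [8,3,6],
  [5,4,7,0],
  [0,3,0],
  [1,7,3,0],
  [0,5,5,5],
  [1,2,7,3],
  [8,3,7,0],
  [2,2,7],
  [8,6,3],
  [1,6,2],
  [0,3,6,0],
  [8,3],
  [1,2,2],
  [4,1,0,0],
  [4,0,6,2],
  [4,0,0,0],
  [8,0,5,6],
  [8,7,8,4],
  [0,8,4,1],
  [8,8,2,1],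
  [6,5,4,2],
  [2,5,1,2],
  [8,0,5],
  [5,1,7,2],
  [2,1,7,2],
  [2,1,5],
  [4,1,5,1],
  [5,6,0],
  [6,4,5],
  [6,8,4],
  [5,7,4,3],
  [7,1,1],
  [3,0,0,1],
  [2,5,0,4],
  [5,6,4,1],
  [7,7,1,0],
  [8,7],
  [4,3,4,0],
  [1,0,8,0],
  [6,0,0,1],
  [8,1,0],
  [8,5,3],
  [3,0,4,3],
  [0,1,7],
  [5,4,8],
  [7,7,1,1],
  [6,7,6,3],
  [3,6],
  [6,8,2],
  [7,1,2],
  [6,2,3],
  [4,3,0,0],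
  [4,6,1,2],
  [4,1,7],
  [0,1,0,0],
  [7,5,1,0],
  [6,1,5,1],
  [0,0,7],
  [8,4,8,0],
  [4,2,1,0],
  [6,5],
  [3,5,5,0],
  [8,8,7],
  [4,3,2]]

/-- Words. -/
def wordsOne4 : List (List Nat) := [
  [7,0,5,2],
  [5,7],
  [8,4,5,5],
  [7,5,6],
  [7,7,2],
  [0,4,1,6],
  [1,8,1],
  [6,5,6],
  [4,2,6],
  [0,3,4,1],
  [4,2],
  [2,4,4,0],
  [1,5,7],
  [4,6,4,0],
  [0,7,3,0],
  [8,3,8,0],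
  [2,4,0,0],
  [4,5,1],
  [3,6,5,0],
  [4,6,8,0],
  [3,7,8,2],
  [1,1,2,3],
  [3,6,8,1],
  [0,5,3,0],
  [4,2,3,0],
  [2,6,3],
  [6,4,7],
  [2,5,0,3],
  [3,8,1,1],
  [6,1,2],
  [7,6,1,0],
  [1,5,1],
  [8,6,4,3],
  [3,3,5],
  [1,4,2,1],
  [2,2,1],
  [3,8,4,1],
  [4,4],
  [1,2,4,0],
  [3,7,3],
  [1,5,3,0],
  [1,6,3],
  [7,0],
  [3,4,6,2],
  [4,7,8],
  [6,4,3],
  [1,8,6,5],
  [5,8,5],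
  [0,5,2,1],
  [4,5,7,2],
  [1,8,5],
  [6,7,0,1],
  [5,5,1,1],
  [2,8,5],
  [3,0,3,0],
  [0,3,6,2],
  [3,4,2],
  [0,7,1],
  [4,5,4,0],
  [5,2,2],
  [7,3,6,0],
  [2,2,7,2],
  [5,1,8],
  [7,0,0,1],
  [1,8,6,0],
  [7,2,3],
  [6,5,7,0],
  [8,7,5,1],
  [7,2,1,0],
  [0,3,3],
  [6,7,7,0],
  [6,0,5,0],
  [6,8,8,0],
  [0,4,0,6],
  [2,3,4],
  [0,6,8,3,0],
  [1,6,4,3],
  [8,7,4,1],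
  [0,1,6],
  [0,1],
  [5,2,8],
  [2,2,3],
  [6,1,0,0],
  [1,6,5],
  [5,5,0],
  [0,5,6],
  [7,4,5],
  [0,5],
  [8,2,4,0],
  [8,5,4],
  [4,1,2],
  [3,0,7],
  [3,3,0],
  [6,8,4,0],
  [6,5,2],
  [5,2,1,1],
  [7,5,4],
  [8,1,8,4],
  [1,1,1],
  [8,3,3,0]]

/-- Words. -/
def wordsOne5 : List (List Nat) := [
  [4,2,5],
  [1,4,3,0],
  [5,0,1,2],
  [1,4],
  [5,7,5],
  [8,7,0],
  [1,4,6],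
  [0,6,0],
  [7,4,4,1],
  [8,3,2],
  [8,2,8,0],
  [4,8,5,1],
  [6,7,8,2],
  [3,5,5,1],
  [8,8,8,3],
  [0,1,6,8],
  [0,0,6],
  [7,2,6,0],
  [0,6,1,6],
  [0,0],
  [5,3],
  [3,2],
  [5,2,5,3],
  [1,4,5],
  [5,2,1,0],
  [3,7,1,0],
  [2,5,2],
  [7,5,6,0],
  [3,7,5,3],
  [8,0,1,6],
  [6,3,8,0],
  [8,0,4,0],
  [5,0,5],
  [7,2,8,2],
  [8,2,3,4],
  [4,8,0],
  [7,4,4,2],
  [1,8,4],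
  [8,0,1],
  [1,0],
  [7,5,8,0],
  [8,1,7,1],
  [0,3,0,0],
  [6,4,1],
  [7,4,1,0,0],
  [0,4,0],
  [8,0,8,3],
  [6,7,1,1],
  [7,8,4],
  [8,8,1,0],
  [2,3,7,1],
  [4,5,5],
  [4,7,7,0],
  [8,2,1],
  [4,3,7],
  [7,4,0],
  [6,5,8],
  [0,4,1],
  [8,4,4,0],
  [7,3,6],
  [3,0,3],
  [8,1,1,1],
  [4,7],
  [5,4,2],
  [0,6,8],
  [6,8,7],
  [8,5,0,3],
  [5,1,5],
  [3,0,1],
  [1,8,0],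
  [5,5,6,0],
  [7,3,8,1],
  [0,8,5],
  [3,5,0,0],
  [2,6,7],
  [3],
  [1,7],
  [8,2,1,1],
  [2,8,1,0],
  [8,1,8],
  [0,5,2,6],
  [2,4,4],
  [0],
  [0,8,1,5],
  [1,6,8],
  [0,6],
  [7,0,7],
  [0,3,5],
  [1,0,1],
  [5,5,5],
  [3,6,0],
  [5,8,8,1],
  [0,4,1,1],
  [7,2,6],
  [7,2],
  [1,4,0,1],
  [4,8,5],
  [5,1,2,3],
  [5,5,4,3],
  [5,6]]

/-- Words. -/
def wordsOne6 : List (List Nat) := [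
  [4,1,6],
  [8,5,7,3],
  [7,6,7,3],
  [8,0,3],
  [4,5,5,2],
  [3,8,2],
  [7,1,7,4],
  [8,0,4,3],
  [1,5,7,2],
  [2,5,3],
  [4,8,3],
  [2,1,0],
  [8,2,8],
  [4,7,1],
  [4,1],
  [8,7,2,1],
  [8,1,6,0],
  [0,6,3,0],
  [4,4,7,1],
  [0,5,2],
  [7,5,4,2],
  [7,7,3],
  [8,5,1,4,0],
  [7,4,4],
  [1,5,8],
  [4,0,7],
  [5,5,1,2],
  [1,1,7,0],
  [8,2,8,2],
  [2,6,0],
  [7,3,7,3],
  [2,6,0,6],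
  [5,8,0],
  [1,4,3],
  [1,7,7,0],
  [0,5,5,4],
  [5,1],
  [0,8,1,1],
  [4,5],
  [8,4],
  [5,2,3],
  [4,6,5],
  [1,1,6],
  [5,2,4,3],
  [1,1],
  [1,7,8,0],
  [4,7,2],
  [3,5,4,2],
  [7,5,7],
  [0,8,0],
  [4,3,0],
  [],
  [8,5,8,2],
  [8,1,5],
  [4,3,3,6],
  [7,8,2],
  [7,3,0,4],
  [6,8,1],
  [3,7,8,0],
  [1,2,5,2],
  [4,5,0,0],
  [7,5,3],
  [2,4,1],
  [1,6,1,2],
  [8,1,1],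
  [2,4,7,2],
  [2,4,5],
  [4,7,7],
  [7,6,5,0],
  [1,8,3],
  [7,5,4,4],
  [1,0,3,0],
  [3,8,8,1],
  [7,1,0],
  [5,8,5,0],
  [4,5,2,1],
  [5,1,4,1],
  [7,1,5,0],
  [3,0,0,0],
  [7,5,8,3],
  [3,0,6,3],
  [7,6,4,0],
  [0,8],
  [7,4,6],
  [5,0,0,4],
  [5,7,1],
  [1,0,0,3],
  [3,8,8,5],
  [5,5,5,2],
  [8,3,5,6],
  [2,3,5,0],
  [0,4,4,1],
  [3,3,8,2],
  [8,6,1,1],
  [8,0,6,3],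
  [8,1,7,4],
  [0,6,5,0],
  [0,0,3],
  [7,8],
  [7,8,6]]

/-- Words. -/
def wordsOne7 : List (List Nat) := [
  [2,3,0,4],
  [2,8,2],
  [5,4,5],
  [5,8,4],
  [4,4,2],
  [6,6,5,1],
  [6,3,0,1],
  [0,4,1,0],
  [0,4,5,3],
  [1,8,5,0],
  [3,8,5,0],
  [7,6,0,0],
  [6,3,0,0],
  [4,7,3,0],
  [1,2,6],
  [1,2],
  [2,2,4],
  [8,5,0],
  [6,0,1,1],
  [5,1,4,0],
  [0,3,4],
  [4,3,6,0],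
  [2,1,2,3],
  [1,7,8],
  [7,8,3,0],
  [0,7,4,4],
  [2,5,0,1],
  [5,3,0,0],
  [7,0,3],
  [1,2,8,0],
  [2,1,1],
  [6,2,2,3],
  [6,8,0],
  [4,5,6],
  [6,7,2,3],
  [2,6,7,1],
  [2,7,3],
  [1,0,7],
  [4,5,7],
  [4,7,0,1],
  [6,1,2,3],
  [2,7,5],
  [0,5,4,0],
  [8,6,6,2],
  [8,1,2],
  [3,7,1,2],
  [5,4,1,1],
  [5,2,5],
  [0,6,8,0],
  [3,2,7],
  [2,4,5,1],
  [2,3,4,2],
  [7,1,6],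
  [7,1],
  [0,6,7,0],
  [2,3,0,3],
  [2,4,8,0],
  [3,3,0,7],
  [8,8,5,1],
  [3,6,5,2],
  [1,8,4,0],
  [5,4,0,0],
  [5,2,1],
  [3,3],
  [2,1,1,1],
  [7,4,5,0],
  [0,1,2,3],
  [0,4,2,1],
  [3,0,0],
  [3,3,6],
  [3,3,3,0],
  [7,7,0,1],
  [5,5,2],
  [3,8,1,0],
  [5,6,8,0],
  [2,8,7],
  [1,5,3],
  [4,4,8,0],
  [5,0,8,1],
  [4,7,4],
  [5,7,0,1],
  [6,3,4],
  [7,8,0,4],
  [8,4,7,2],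
  [0,6,2],
  [1,0,0],
  [5,0,0],
  [6,8,5,3],
  [1,8,7],
  [3,8,0,4],
  [5,0,5,1],
  [2,7,1,1],
  [7,2,3,4],
  [4,7,1,0],
  [7,0,4,0],
  [7,2,2],
  [5,6,6,5],
  [3,3,5,0],
  [5,5,1],
  [2,6,5]]

/-- Words. -/
def wordsOne8 : List (List Nat) := [
  [0,8,3,0],
  [1,7,2,1],
  [7,7,6],
  [8,8,4,0],
  [7,2,3,0],
  [0,4,7,0],
  [3,4,0],
  [8,5,7,0],
  [6,8,3,0],
  [5,3,3,0],
  [3,4,6,0],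
  [0,7,0,4],
  [2,7,4,0],
  [2,4,7],
  [7,5,5],
  [4,5,2],
  [6,1,4,2],
  [2,3,7,3],
  [3,4,1],
  [7,0,1],
  [8,7,7,0],
  [1,0,4],
  [0,8,1],
  [2,5,7],
  [3,0,3,4],
  [6,7,4],
  [6,0,8],
  [8,8,2],
  [4,8,7],
  [2,3,2],
  [8,1,5,4],
  [7,2,8],
  [6,4,5,1],
  [7,5,8],
  [2,1,4],
  [6,0,6],
  [7,4,3],
  [8,1,5,0],
  [0,6,0,1],
  [6,0],
  [5,6,0,1],
  [6,2,2,1],
  [0,8,8,0],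
  [5,6,3,0],
  [5,3,4,0],
  [7,7],
  [0,3,7,1],
  [6,4,0,0],
  [3,7,2,8],
  [6,3,7],
  [2,3,0,1],
  [8,6,0,1],
  [4,8,0,1],
  [0,5,1],
  [0,0,4],
  [5,2,4,0],
  [2,7,0],
  [5,5,3,0],
  [4,0,4],
  [2,1,0,1],
  [6,3,0],
  [2,2,2,4],
  [8,0,8],
  [4,8,6],
  [3,4,0,0],
  [6,6,8],
  [7,0,5,1],
  [2,4,7,1],
  [8,0,7,0],
  [8,3,4],
  [7,6,0,5],
  [5,5,8],
  [6,7,7,3],
  [3,4,5,1],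
  [2,5,1],
  [1,2,7],
  [7,6,0],
  [2,6,8,0],
  [0,0,0,3],
  [5,4,0],
  [3,4,7],
  [6,0,7],
  [3,7,5,1],
  [8,5,4,3],
  [5,8,6,0],
  [3,2,3,0],
  [5,4,4,0],
  [7,1,2,1],
  [1,1,5],
  [7,8,5],
  [6,3,4,0],
  [2,8],
  [4,0,8,0],
  [8,3,7],
  [2,8,6],
  [6,6,2],
  [3,7],
  [4,1,1,1],
  [7,5,3,0],
  [5,4,3]]

/-- Words. -/
def wordsOne9 : List (List Nat) := [
  [1,2,3],
  [4,2,1],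
  [6,2],
  [2,1,0,0],
  [0,5,8,2],
  [1,0,1,0],
  [8,7,7,5],
  [6,0,3,0],
  [4,4,4,3],
  [5,3,4],
  [1,5,1,2],
  [8,5,5],
  [4,2,8,5],
  [7,6,7,2],
  [6,8,7,3],
  [5,6,7],
  [7,6,5],
  [6,8,4,4],
  [3,8,7,0],
  [4],
  [4,6],
  [2,6,7,0],
  [8,6,3,0],
  [5,2,7],
  [6,1,7,1],
  [7,3,0,0],
  [6,8,3],
  [7,4,2],
  [1,6,5,0],
  [3,5,4],
  [6,7,4,2],
  [4,6,7,0],
  [3,2,1],
  [0,8,6,2],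
  [7,5,6,2],
  [6,5,7,4],
  [5,6,7,1],
  [0,6,6,2],
  [5,7,1,2],
  [5,8,1,0],
  [8,8,1,1],
  [7,5,5,0],
  [2,4,3,0],
  [6,2,7,1],
  [5,0,6,2],
  [1,5,6,0],
  [8,6,8,0],
  [0,8,0,4],
  [8,1,4,3],
  [6,0,4],
  [8],
  [0,5,7,1],
  [1,4,4],
  [7,0,0],
  [5,0,8,0],
  [2,1,7],
  [3,7,2],
  [3,5,6],
  [3,5],
  [7,1,4,4],
  [2,2,1,0],
  [5,6,8,1],
  [1,8,1,0],
  [2,7,1,0],
  [3,7,4],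
  [2,7,5,3],
  [3,6,4,4],
  [2,2,6,0],
  [2,5,8,0],
  [6,8,6,0],
  [1,2,1,5],
  [8,0,8,0],
  [2],
  [4,3,0,1],
  [5,4,5,1],
  [3,2,2,4],
  [5,2,2,1],
  [4,2,3,3],
  [0,4,3],
  [4,6,7,3],
  [0,7,5,0,0],
  [1,5,5,0],
  [6,1,8,2],
  [8,5,1],
  [0,5,0,6],
  [0,5,0],
  [8,8,0],
  [5,8,3],
  [6,0,8,3],
  [1,2,8,2],
  [1,4,4,2],
  [6,2,4,0],
  [7,8,1],
  [1,5,0],
  [1,2,1,4],
  [2,4],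
  [2,4,6],
  [4,4,6,2],
  [1,6,0],
  [4,0,7,0]]

/-- Words. -/
def wordsOne10 : List (List Nat) := [
  [1,2,1,0],
  [3,4,3],
  [6,6,8,0],
  [3,7,7,0],
  [4,0,7,1],
  [1,5,0,0],
  [5,3,7],
  [4,8,2,1],
  [6,5,7],
  [8,2,7,1],
  [6,5,1],
  [4,1,7,0],
  [6,2,5],
  [5,8,6,2],
  [2,7,1],
  [6,7,0],
  [7,8,2,1],
  [0,6,4,0],
  [5,7,2],
  [0,6,7],
  [5,5,6],
  [1,8,1,1],
  [8,8,1],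
  [0,4],
  [6,8,1,1],
  [4,6,1,0],
  [7,6,4,2],
  [7,4,0,0],
  [1,1,2],
  [4,0,1],
  [6,7,3],
  [8,4,1,1],
  [8,5,3,3],
  [5,4,1,2],
  [5,0,4,0],
  [7,2,1],
  [0,4,6],
  [5,5],
  [2,5,8,3],
  [0,8,4],
  [5,0,6],
  [0,4,7,2],
  [4,2,1,1],
  [5,0],
  [5,1,1,0],
  [2,5,4,0],
  [3,7,8],
  [6,0,5,3],
  [8,6,2],
  [5,6,4,0,0],
  [8,2],
  [4,6,4,1],
  [8,2,6],
  [0,4,4,2],
  [7,6,3],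
  [3,0,4,6],
  [3,0,4],
  [0,3,8,1],
  [0,4,5],
  [1,8,2],
  [2,1,1,0],
  [0,7,6,3],
  [6,4,4],
  [5,0,3,0],
  [4,7,0],
  [0,1,2],
  [0,1,1],
  [8,0,4],
  [8,6],
  [5,7,0],
  [7,6,7],
  [1,7,3],
  [7,7,0,0],
  [6,4,6,0],
  [2,6,0,1],
  [2,6],
  [2,3,6,0],
  [4,8],
  [4,7,1,1],
  [1,5,4],
  [5,5,4],
  [3,7,6],
  [7,6,2,2],
  [7,1,1,0],
  [2,3,0,0],
  [8,4,1,0],
  [2,7,8,1],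
  [7,7,4,0],
  [6,4,0],
  [5,5,3,3],
  [7,1,0,4],
  [0,1,8,2],
  [5,7,4,1],
  [6,5,4,0,0],
  [0,6,8,3],
  [1,1,0],
  [4,0,8],
  [0,7,4,2],
  [6,8,1,0],
  [4,2,4,1]]

/-- Words. -/
def wordsOne11 : List (List Nat) := [
  [7,6,3,0],
  [1,7,1,0],
  [7,3,7,4],
  [4,8,4,0],
  [6,4,1,0],
  [1,4,1],
  [3,5,0],
  [2,6,0,0],
  [6,5,7,2],
  [7,3,0],
  [6,1,6],
  [6,6,5],
  [5],
  [8,2,4],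
  [5,0,1],
  [5,8,7],
  [1,8,8,1],
  [3,8,7],
  [0,5,7,0],
  [6,0,1],
  [5,1,6],
  [1,4,0],
  [0,4,3,0],
  [6],
  [8,7,8],
  [8,4,4,4],
  [6,3,2],
  [3,2,8,2],
  [5,6,7,4],
  [7,4],
  [2,7,0,0],
  [4,4,7],
  [2,7,6,0],
  [0,7,6,7],
  [8,5,0,6],
  [5,6,5],
  [2,2,4,0],
  [3,5,1,2],
  [4,2,5,3],
  [8,5,2,4],
  [5,5,0,3],
  [5,0,0,0],
  [6,1,1,1],
  [6,5,2,3],
  [3,2,3],
  [8,7,6],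
  [6,7,1],
  [8,6,0,0],
  [6,7,2],
  [3,4,4],
  [7,5],
  [1,8,2,1],
  [7,3],
  [2,7,5,1],
  [4,6,4,3],
  [7,1,8,0],
  [1,6,8,0],
  [8,6,7,1],
  [5,1,2,1],
  [3,5,1,1],
  [4,4,3],
  [1,4,5,3],
  [0,8,6,0],
  [6,5,8,3],
  [6,0,6,2],
  [0,7,8,0],
  [3,8,6],
  [3,6,8],
  [4,2,8],
  [5,2,4],
  [6,0,0],
  [6,6,8,1],
  [7,6,0,1],
  [3,2,6],
  [0,5,4,1],
  [5,5,5,0],
  [3,4,8],
  [2,4,0],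
  [0,7,3],
  [5,4],
  [4,5,0],
  [4,6,7],
  [7,8,5,0],
  [4,8,4],
  [1,0,7,0],
  [7,1,7,2],
  [4,0,3],
  [3,2,1,1],
  [7,5,1],
  [6,6,5,0],
  [2,8,0],
  [7,3,8,0],
  [2,7,2,3],
  [2,3,6],
  [4,0,6],
  [1,6,1,0],
  [2,3,5],
  [1,6,4,1],
  [6,0,0,0],
  [2,8,6,2]]

/-- Words. -/
def wordsOne12 : List (List Nat) := [
  [7,0,4],
  [3,0,5,2],
  [5,6,1,2],
  [5,8,2,6],
  [4,7,6,0],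
  [5,3,0],
  [4,8,3,0],
  [0,7,6],
  [5,4,1,6],
  [1,4,7,0],
  [4,0,5],
  [5,4,3,2],
  [2,2,2,3],
  [6,7,8],
  [3,8,2,1],
  [2,3,3],
  [6,2,3,0],
  [8,7,8,0],
  [7,1,0,0],
  [8,3,5,0],
  [8,8,6,0],
  [3,2,7,0],
  [6,1,2,2],
  [7,1,6,0],
  [7,5,2],
  [2,6,3,0],
  [5,2,5,1],
  [6,1,2,1],
  [0,6,0,0],
  [5,1,7],
  [1,8,5,1],
  [8,1,1,0]]

/-- All words, sorted by the points reached. -/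
def wordsOne : List (List Nat) :=
  wordsOne0 ++ wordsOne1 ++ wordsOne2 ++ wordsOne3 ++ wordsOne4 ++ wordsOne5 ++ wordsOne6 ++ wordsOne7 ++ wordsOne8 ++ wordsOne9 ++ wordsOne10 ++ wordsOne11 ++ wordsOne12

end Cfsg.Agent.McLSimple
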