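import Cfsg.Agent.McLSimple.Main
import Cfsg.Agent.McLSimple.OrbitData

/-!
# The group of degree 2025
-/

set_option autoImplicit false

namespace Cfsg.Agent.McLSimple

open Cfsg CfsgLib CfsgLib.Golay MulAction

attribute [local irreducible] CfsgLib.Leech.shortVecs CfsgLib.Leech.halfTable CfsgLib.Leech.quarterTable

/-- Coordinates as a list. -/
def toL (x : GolayPt → ℤ) : List ℤ := (List.range 24).map fun i => x (pt i)

/-- Apply one generator. -/
def act (A : List ℕ) (x : List ℤ) : List ℤ := A.map fun i => x.getD i 0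

/-- Apply a word. -/
def reach (base : List ℤ) : List ℕ → List ℤ
  | [] => base
  | k :: w => act (orbGens.getD k []) (reach base w)

/-- An injective code of the list. -/
def enc : List ℤ → ℕ
  | [] => 0
  | c :: l => (c + 4).toNat + 16 * enc l

/-- Strictly increasing. -/
def incr : List ℕ → Bool
  | [] => true
  | [_] => true
  | a :: b :: l => decide (a < b) && incr (b :: l)

lemma incr_pairwise : ∀ l, incr l = true → l.Pairwise (· < ·)
  | [], _ => List.Pairwise.nil
  | [_], _ => List.pairwise_singleton _ _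
  | a :: b :: l, h => by
    simp only [incr, Bool.and_eq_true, decide_eq_true_eq] at h
    have ih := incr_pairwise (b :: l) h.2
    refine List.Pairwise.cons (fun c hc => ?_) ih
    rcases List.mem_cons.mp hc with rfl | hc
    · exact h.1
    · exact h.1.trans ((List.pairwise_cons.mp ih).1 c hc)

theorem gens_ok : ∀ A ∈ orbGens, A.length = 24 ∧ PreservesCode A ∧
    (∀ i < 24, idx (pt (A.getD i 0)) = A.getD i 0) ∧
    (∀ p : GolayPt, pt ((invL A).getD (idx (pt (A.getD (idx p) 0))) 0) = p ∧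
      pt (A.getD (idx (pt ((invL A).getD (idx p) 0))) 0) = p) ∧
    pt (A.getD 23 0) = none ∧ pt (A.getD 0 0) = some 0 := by
  unfold PreservesCode
  decide +kernel

/-- The permutation of a list. -/
def listPerm (A : List ℕ) (hA : ∀ p : GolayPt, pt ((invL A).getD (idx (pt (A.getD (idx p) 0))) 0) = p ∧
      pt (A.getD (idx (pt ((invL A).getD (idx p) 0))) 0) = p) : Equiv.Perm GolayPt where
  toFun p := pt (A.getD (idx p) 0)
  invFun p := pt ((invL A).getD (idx p) 0)
  left_inv p := (hA p).1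
  right_inv p := (hA p).2

lemma exists_gen {A : List ℕ} (hA : A ∈ orbGens) :
    ∃ σ : ↥(stabilizer M24 (none : GolayPt) ⊓ stabilizer M24 (some 0 : GolayPt)),
      ∀ i < 24, idx (((σ : M24) : Equiv.Perm GolayPt) (pt i)) = A.getD i 0 := by
  obtain ⟨hlen, hpres, hidx, hbij, h23, h0⟩ := gens_ok A hA
  let σ := listPerm A hbij
  have hap : ∀ p, σ p = pt (A.getD (idx p) 0) := fun p => rfl
  have htl : toList σ = A := by
    refine List.ext_getElem (by simp [toList, hlen]) fun i h1 h2 => ?_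
    have hi : i < 24 := by simpa [toList] using h1
    simp only [toList, List.getElem_map, List.getElem_range, hap, idx_pt i hi, hidx i hi]
    exact List.getD_eq_getElem _ _ h2
  refine ⟨⟨⟨σ, mem_M24_of_preserves σ (htl ▸ hpres)⟩, ?_, ?_⟩, fun i hi => ?_⟩
  · show σ none = none
    rw [hap, show idx none = 23 from rfl]; exact h23
  · show σ (some 0) = some 0
    rw [hap, show idx (some 0) = 0 by decide]; exact h0
  · show idx (σ (pt i)) = _
    rw [hap, idx_pt i hi, hidx i hi]

lemma getD_toL (x : GolayPt → ℤ) {i : ℕ} (hi : i < 24) : (toL x).getD i 0 = x (pt i) := by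
  rw [List.getD_eq_getElem _ _ (show i < (toL x).length by simpa [toL] using hi)]
  simp [toL]

lemma exists_reach {y : leechLattice} {base : List ℤ} (hb : toL y = base) :
    ∀ w : List ℕ, (∀ k ∈ w, k < orbGens.length) →
      ∃ g ∈ tripleStab, toL ((g • y : leechLattice) : GolayPt → ℤ) = reach base w
  | [], _ => ⟨1, one_mem _, by rw [one_smul, hb]; rfl⟩
  | k :: w, hw => by
    obtain ⟨g, hg, he⟩ := exists_reach hb w fun j hj => hw j (List.mem_cons_of_mem _ hj)
    have hk : k < orbGens.length := hw k List.mem_cons_self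
    have hA : orbGens.getD k [] ∈ orbGens := by
      rw [List.getD_eq_getElem _ _ hk]; exact List.getElem_mem hk
    obtain ⟨σ, hσ⟩ := exists_gen hA
    have hlen := (gens_ok _ hA).1
    refine ⟨Leech.permHom ((σ : M24)⁻¹) * g,
      mul_mem (by rw [map_inv]; exact inv_mem (tripleEquiv σ).2) hg, ?_⟩
    rw [mul_smul]
    refine List.ext_getElem (by simp [toL, reach, act, -List.getD_eq_getElem?_getD, hlen]) fun i h1 h2 => ?_
    have hi : i < 24 := by simpa [toL] using h1
    have hlt : (orbGens.getD k []).getD i 0 < 24 := hσ i hi ▸ idx_lt _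
    have hlhs : (toL ((Leech.permHom ((σ : M24)⁻¹) • g • y : leechLattice) : GolayPt → ℤ))[i]'h1 =
        ((g • y : leechLattice) : GolayPt → ℤ) (((σ : M24) : Equiv.Perm GolayPt) (pt i)) := by
      simp only [toL, List.getElem_map, List.getElem_range, Leech.permHom_apply, Subgroup.coe_inv, inv_inv]
    have hrhs : (reach base (k :: w))[i]'h2 = (reach base w).getD ((orbGens.getD k []).getD i 0) 0 := by
      simp only [reach, act, List.getElem_map]
      rw [List.getD_eq_getElem _ _ (show i < (orbGens.getD k []).length by rw [hlen]; exact hi)]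
    rw [hlhs, hrhs, ← he, getD_toL _ hlt, ← hσ i hi, pt_idx]

theorem reach_zero : incr ((wordsZero.map (enc ∘ reach baseZero))) = true ∧
    (wordsZero.all fun w => w.all fun k => decide (k < orbGens.length)) = true ∧ wordsZero.length = 330 := by
  decide +kernel

theorem reach_two : incr ((wordsTwo.map (enc ∘ reach baseTwo))) = true ∧
    (wordsTwo.all fun w => w.all fun k => decide (k < orbGens.length)) = true ∧ wordsTwo.length = 462 := by
  decide +kernel

theorem reach_one : incr ((wordsOne.map (enc ∘ reach baseOne))) = true ∧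
    (wordsOne.all fun w => w.all fun k => decide (k < orbGens.length)) = true ∧ wordsOne.length = 1232 := by
  decide +kernel

lemma ncard_inZ_val (a : ℤ) (ha : -4 ≤ a ∧ a ≤ 4) :
    {x : GolayPt → ℤ | x ∈ leechLattice ∧ InZ x ∧ x none = a}.ncard =
      Leech.PinCount.countWith 2
        [1, 0, 0, 0, 330, 176, 176, 77, 616, 672, 672, 616, 77, 176, 176, 330, 0, 0, 0, 1]
        [a, -a] (decide (a % 2 = 1)) [16 - 4 * a] := by
  have hset : {x : GolayPt → ℤ | x ∈ leechLattice ∧ InZ x ∧ x none = a} =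
      Leech.PinCount.pinned [none, some 0] [a, -a] [16 - 4 * a] := by
    ext w
    simp only [Leech.PinCount.pinned, InZ, Set.mem_ofPred_eq, List.zip_cons_cons, List.zip_nil_right,
      List.mem_cons, List.not_mem_nil, or_false, forall_eq_or_imp, forall_eq]
    constructor
    · rintro ⟨hw, ⟨hn, hs, h0⟩, h⟩
      exact ⟨hw, hn, ⟨h, by omega⟩, by omega⟩
    · rintro ⟨hw, hn, ⟨h1, h2⟩, hs⟩
      exact ⟨hw, ⟨hn, by omega, by omega⟩, h1⟩
  rw [hset]
  refine Leech.PinCount.ncard_pinned_pair a (-a) (decide (a % 2 = 1)) (S := [16 - 4 * a]) (by simp) ?_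
  intro s hs
  rw [List.mem_singleton] at hs
  subst hs
  by_cases h : a % 2 = 1 <;> simp only [h, decide_true, decide_false, if_true, if_false,
    Bool.false_eq_true] <;> omega

lemma ncard_inZ : {x : GolayPt → ℤ | x ∈ leechLattice ∧ InZ x}.ncard = 2025 := by
  have hset : {x : GolayPt → ℤ | x ∈ leechLattice ∧ InZ x} =
      ⋃ a ∈ Finset.Icc (-4 : ℤ) 4, {x : GolayPt → ℤ | x ∈ leechLattice ∧ InZ x ∧ x none = a} := by
    ext w
    simp only [Set.mem_ofPred_eq, Set.mem_iUnion, Finset.mem_Icc, exists_prop]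
    exact ⟨fun h => ⟨w none, Leech.PinCount.min_value_le h.1 h.2.1 none, h.1, h.2, rfl⟩,
      fun ⟨a, _, h1, h2, _⟩ => ⟨h1, h2⟩⟩
  have hfin : {w : GolayPt → ℤ | w ∈ leechLattice ∧ sqNorm w = 32}.Finite :=
    Set.finite_of_ncard_pos (by rw [Leech.ncard_norm_32]; norm_num)
  rw [hset, ← Finset.set_biUnion_coe,
    Set.Finite.ncard_biUnion (Finset.Icc (-4 : ℤ) 4).finite_toSet
      (fun a _ => hfin.subset fun w hw => ⟨hw.1, hw.2.1.1⟩) ?_, finsum_mem_coe_finset]
  · rw [Finset.sum_congr rfl fun a ha => ncard_inZ_val a (Finset.mem_Icc.mp ha)]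
    decide +kernel
  · intro a _ b _ hab
    rw [Function.onFun, Set.disjoint_left]
    rintro w ⟨-, -, ha⟩ ⟨-, -, hb⟩
    exact hab (ha.symm.trans hb)

/-- The standard set. -/
def zSet : Set leechLattice := {x | InZ (x : GolayPt → ℤ)}

lemma ncard_zSet : zSet.ncard = 2025 := (Leech.ncard_coe InZ).trans ncard_inZ

lemma orbit_eq_zSet : orbit mclStab Spor.leechU' = zSet := by
  haveI : Finite mclStab := Nat.finite_of_card_ne_zero (by rw [card_mclStab]; norm_num)
  refine Set.eq_of_subset_of_ncard_le ?_ ?_ (Set.finite_of_ncard_pos (by rw [ncard_zSet]; norm_num))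
  · rintro _ ⟨g, rfl⟩
    exact inZ_smul g.2 inZ_base
  · let E : ↥(stabilizer mclStab Spor.leechU') ≃ ↥tripleStab :=
      { toFun := fun g => ⟨g.1.1, g.1.2, g.2⟩
        invFun := fun g => ⟨⟨g.1, g.2.1⟩, g.2.2⟩
        left_inv := fun g => rfl
        right_inv := fun g => rfl }
    have h := (stabilizer mclStab Spor.leechU').card_mul_index
    rw [index_stabilizer, Nat.card_congr E, ← Nat.card_congr tripleEquiv.toEquiv,
      card_stab_pair none (some 0) (by simp), card_mclStab] at h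
    rw [ncard_zSet]
    exact le_of_eq (Nat.eq_of_mul_eq_mul_left (by norm_num : 0 < 443520) (h.trans (by norm_num))).symm

lemma ncard_suborbit {base : List ℤ} {words : List (List ℕ)} {a : ℤ} {n : ℕ}
    (ha : -4 ≤ a ∧ a ≤ 4)
    (hcount : Leech.PinCount.countWith 2
        [1, 0, 0, 0, 330, 176, 176, 77, 616, 672, 672, 616, 77, 176, 176, 330, 0, 0, 0, 1]
        [a, -a] (decide (a % 2 = 1)) [16 - 4 * a] = n)
    (hwords : incr (words.map (enc ∘ reach base)) = true ∧
      (words.all fun w => w.all fun k => decide (k < orbGens.length)) = true ∧ words.length = n)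
    (htest : Leech.LeechTest (fun p => base.getD (idx p) 0)) (hlen : base.length = 24)
    (hz : InZ (fun p => base.getD (idx p) 0)) (hnone : base.getD 23 0 = a) :
    ∃ y : leechLattice, y ∈ zSet ∧ (orbit tripleStab y).ncard = n := by
  refine ⟨⟨fun p => base.getD (idx p) 0, Leech.mem_of_test htest⟩, hz, ?_⟩
  set y : leechLattice := ⟨fun p => base.getD (idx p) 0, Leech.mem_of_test htest⟩ with hy
  have hyb : toL (y : GolayPt → ℤ) = base := by
    refine List.ext_getElem (by simp [toL, hlen]) fun i h1 h2 => ?_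
    have hi : i < 24 := by simpa [toL] using h1
    simp only [toL, List.getElem_map, List.getElem_range, hy, idx_pt i hi]
    exact List.getD_eq_getElem _ _ h2
  have hsub : Subtype.val '' (orbit tripleStab y) ⊆ {x : GolayPt → ℤ | x ∈ leechLattice ∧ InZ x ∧ x none = a} := by
    rintro _ ⟨_, ⟨⟨g, hg⟩, rfl⟩, rfl⟩
    refine ⟨(g • y : leechLattice).2, inZ_smul hg.1 hz, ?_⟩
    obtain ⟨σ, h0, -, rfl⟩ := exists_perm_of_fix hg
    show ((Leech.permHom σ • y : leechLattice) : GolayPt → ℤ) none = a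
    rw [Leech.permHom_apply, Equiv.Perm.inv_def, (Equiv.symm_apply_eq _).mpr h0.symm]
    exact hnone
  have hupper : (orbit tripleStab y).ncard ≤ n := by
    rw [← Set.ncard_image_of_injective _ Subtype.val_injective, ← hcount, ← ncard_inZ_val a ha]
    refine Set.ncard_le_ncard hsub ((Set.finite_of_ncard_pos (s := {x : GolayPt → ℤ | x ∈ leechLattice ∧ InZ x})
      (by rw [ncard_inZ]; norm_num)).subset fun x hx => ⟨hx.1, hx.2.1⟩)
  refine le_antisymm hupper ?_
  obtain ⟨hincr, hall, hn⟩ := hwords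
  simp only [List.all_eq_true, decide_eq_true_eq] at hall
  have hnd : (words.map (reach base)).Nodup := by
    refine List.Nodup.of_map enc ?_
    rw [List.map_map]
    exact (incr_pairwise _ hincr).imp ne_of_lt
  have hlow : ((words.map (reach base)).toFinset : Set (List ℤ)) ⊆
      (fun x : leechLattice => toL (x : GolayPt → ℤ)) '' orbit tripleStab y := by
    intro l hl
    rw [List.coe_toFinset, Set.mem_ofPred_eq, List.mem_map] at hl
    obtain ⟨w, hw, rfl⟩ := hl
    obtain ⟨g, hg, he⟩ := exists_reach hyb w (hall w hw)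
    exact ⟨g • y, ⟨⟨g, hg⟩, rfl⟩, he⟩
  have hfin : (orbit tripleStab y).Finite := by
    haveI : Finite tripleStab := Finite.of_equiv _ tripleEquiv.toEquiv
    exact Set.finite_range _
  have h1 := Set.ncard_le_ncard hlow (hfin.image _)
  rw [Set.ncard_coe_finset, List.toFinset_card_of_nodup hnd, List.length_map, hn] at h1
  exact h1.trans (Set.ncard_image_le hfin)

/-- The three conditions. -/
def ZCond (v w x : leechLattice) : Prop :=
  sqNorm (x : GolayPt → ℤ) = 32 ∧ dotInt (v : GolayPt → ℤ) (x : GolayPt → ℤ) = 0 ∧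
    dotInt (w : GolayPt → ℤ) (x : GolayPt → ℤ) = 16

theorem rank_four {v w : leechLattice} (hv : sqNorm (v : GolayPt → ℤ) = 32)
    (hw : sqNorm (w : GolayPt → ℤ) = 32) (hvw : dotInt (v : GolayPt → ℤ) (w : GolayPt → ℤ) = -8) :
    {x | ZCond v w x}.ncard = 2025 ∧
    (∀ x ∈ {x | ZCond v w x}, ∀ x' ∈ {x | ZCond v w x}, ∃ g : Co0, g • v = v ∧ g • w = w ∧ g • x = x') ∧
    ∀ x ∈ {x | ZCond v w x}, ∃ y₁ ∈ {x | ZCond v w x}, ∃ y₂ ∈ {x | ZCond v w x}, ∃ y₃ ∈ {x | ZCond v w x},
      (orbit ↥(stabilizer Co0 v ⊓ stabilizer Co0 w ⊓ stabilizer Co0 x) y₁).ncard = 330 ∧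
      (orbit ↥(stabilizer Co0 v ⊓ stabilizer Co0 w ⊓ stabilizer Co0 x) y₂).ncard = 462 ∧
      (orbit ↥(stabilizer Co0 v ⊓ stabilizer Co0 w ⊓ stabilizer Co0 x) y₃).ncard = 1232 := by
  obtain ⟨g, hgv, hgw⟩ := exists_to_standard hv hw hvw
  set w₀ : leechLattice := -(Spor.leechU + Spor.leechV) with hw₀
  have hmem : ∀ x : leechLattice, ZCond v w x ↔ g • x ∈ zSet := by
    intro x
    have e1 := Leech.dot_smul' g v x
    have e2 := Leech.dot_smul' g w x
    rw [hgv, Leech.dot_U] at e1
    rw [hgw] at e2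
    have e3 : dotInt (w₀ : GolayPt → ℤ) ((g • x : leechLattice) : GolayPt → ℤ) =
        -(dotInt Spor.vecU ((g • x : leechLattice) : GolayPt → ℤ)) -
          dotInt Spor.vecV ((g • x : leechLattice) : GolayPt → ℤ) := by
      show dotInt (-(Spor.vecU + Spor.vecV)) _ = _
      simp only [dotInt, Pi.neg_apply, Pi.add_apply, neg_mul, add_mul, Finset.sum_neg_distrib,
        Finset.sum_add_distrib]
      ring
    rw [e3, show dotInt Spor.vecU ((g • x : leechLattice) : GolayPt → ℤ) =
        dotInt (Spor.leechU : GolayPt → ℤ) ((g • x : leechLattice) : GolayPt → ℤ) from rfl, Leech.dot_U,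
      dot_vecV] at e2
    simp only [ZCond, zSet, InZ, Set.mem_ofPred_eq, Leech.sqNorm_smul]
    constructor <;> rintro ⟨h1, h2, h3⟩ <;> exact ⟨h1, by omega, by omega⟩
  have hset : {x | ZCond v w x} = (fun x => g • x) ⁻¹' zSet := Set.ext hmem
  have htrans : ∀ x ∈ zSet, ∀ x' ∈ zSet, ∃ k ∈ mclStab, k • x = x' := by
    intro x hx x' hx'
    rw [← orbit_eq_zSet] at hx hx'
    obtain ⟨k, rfl⟩ := hx
    obtain ⟨k', rfl⟩ := hx'
    exact ⟨k'.1 * k.1⁻¹, mul_mem k'.2 (inv_mem k.2), by
      show (k'.1 * k.1⁻¹) • k.1 • Spor.leechU' = _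
      rw [mul_smul, inv_smul_smul]; rfl⟩
  have hconj : ∀ k : Co0, k ∈ stabilizer Co0 v ⊓ stabilizer Co0 w ↔ g * k * g⁻¹ ∈ mclStab := fun k => by
    have e1 : k • v = v ↔ (g * k * g⁻¹) • Spor.leechU = Spor.leechU := by simp [← hgv, mul_smul]
    have e2 : k • w = w ↔ (g * k * g⁻¹) • w₀ = w₀ := by simp [← hgw, mul_smul]
    rw [Subgroup.mem_inf, mem_stabilizer_iff, mem_stabilizer_iff, e1, e2]
    constructor
    · rintro ⟨h1, h2⟩
      rw [hw₀, Leech.smul_neg', Leech.smul_add', h1, neg_inj, add_right_inj] at h2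
      exact ⟨h2, h1⟩
    · rintro ⟨h1, h2⟩
      refine ⟨h2, ?_⟩
      rw [hw₀, Leech.smul_neg', Leech.smul_add', show (g * k * g⁻¹) • Spor.leechU = Spor.leechU from h2,
        show (g * k * g⁻¹) • Spor.leechV = Spor.leechV from h1]
  refine ⟨?_, ?_, ?_⟩
  · rw [hset, Set.ncard_preimage_of_injective_subset_range (MulAction.injective g)
      (fun x _ => ⟨g⁻¹ • x, smul_inv_smul g x⟩), ncard_zSet]
  · intro x hx x' hx'
    obtain ⟨k, hk, e⟩ := htrans _ ((hmem x).mp hx) _ ((hmem x').mp hx')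
    have hk' : g⁻¹ * k * g ∈ stabilizer Co0 v ⊓ stabilizer Co0 w := (hconj _).mpr (by simpa [mul_assoc] using hk)
    exact ⟨g⁻¹ * k * g, hk'.1, hk'.2, by rw [mul_smul, mul_smul, e, inv_smul_smul]⟩
  · intro x hx
    obtain ⟨k, hk, e⟩ := htrans _ ((hmem x).mp hx) Spor.leechU' inZ_base
    set h := k * g with hh
    have hhx : h • x = Spor.leechU' := by rw [hh, mul_smul]; exact e
    have hconj' : ∀ m : Co0, m ∈ stabilizer Co0 v ⊓ stabilizer Co0 w ⊓ stabilizer Co0 x ↔
        h * m * h⁻¹ ∈ tripleStab := by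
      intro m
      have e1 : m • x = x ↔ (h * m * h⁻¹) • Spor.leechU' = Spor.leechU' := by simp [← hhx, mul_smul]
      have e2 : g * m * g⁻¹ ∈ mclStab ↔ h * m * h⁻¹ ∈ mclStab := by
        rw [hh, show k * g * m * (k * g)⁻¹ = k * (g * m * g⁻¹) * k⁻¹ by group,
          Subgroup.mul_mem_cancel_right _ (inv_mem hk), Subgroup.mul_mem_cancel_left _ hk]
      rw [Subgroup.mem_inf, hconj, e2, mem_stabilizer_iff, e1]
      rfl
    have horb : ∀ z : leechLattice, (orbit ↥(stabilizer Co0 v ⊓ stabilizer Co0 w ⊓ stabilizer Co0 x) (h⁻¹ • z)).ncard =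
        (orbit tripleStab z).ncard := by
      intro z
      rw [← Set.ncard_image_of_injective (orbit _ (h⁻¹ • z)) (MulAction.injective h)]
      congr 1
      ext u
      constructor
      · rintro ⟨_, ⟨⟨m, hm⟩, rfl⟩, rfl⟩
        exact ⟨⟨h * m * h⁻¹, (hconj' m).mp hm⟩, by
          show (h * m * h⁻¹) • z = h • m • h⁻¹ • z
          rw [mul_smul, mul_smul]⟩
      · rintro ⟨⟨m, hm⟩, rfl⟩
        refine ⟨h⁻¹ • m • z, ⟨⟨h⁻¹ * m * h, (hconj' _).mpr (by simpa [mul_assoc] using hm)⟩, ?_⟩, smul_inv_smul _ _⟩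
        show (h⁻¹ * m * h) • h⁻¹ • z = h⁻¹ • m • z
        rw [mul_smul, mul_smul, smul_inv_smul]
    have hback : ∀ z ∈ zSet, ZCond v w (h⁻¹ • z) := fun z hz => by
      rw [hmem, hh, mul_inv_rev, mul_smul, smul_inv_smul]
      exact inZ_smul (inv_mem hk) hz
    obtain ⟨y₁, hy₁, n₁⟩ := ncard_suborbit (a := 0) (n := 330) (by norm_num) (by decide +kernel) reach_zero
      (by decide +kernel) (by decide +kernel) (by unfold InZ; decide +kernel) (by decide +kernel)
    obtain ⟨y₂, hy₂, n₂⟩ := ncard_suborbit (a := 2) (n := 462) (by norm_num) (by decide +kernel) reach_two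
      (by decide +kernel) (by decide +kernel) (by unfold InZ; decide +kernel) (by decide +kernel)
    obtain ⟨y₃, hy₃, n₃⟩ := ncard_suborbit (a := 1) (n := 1232) (by norm_num) (by decide +kernel) reach_one
      (by decide +kernel) (by decide +kernel) (by unfold InZ; decide +kernel) (by decide +kernel)
    exact ⟨h⁻¹ • y₁, hback _ hy₁, h⁻¹ • y₂, hback _ hy₂, h⁻¹ • y₃, hback _ hy₃,
      (horb y₁).trans n₁, (horb y₂).trans n₂, (horb y₃).trans n₃⟩

end Cfsg.Agent.McLSimple
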