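import Cfsg.Agent.McLSimple.Criterion
import Cfsg.Agent.Leech.StabSimple
import Cfsg.Agent.Leech.PairCount
import Cfsg.Agent.Leech.StabOrbits
import Cfsg.Agent.Golay.Mathieu
import Cfsg.Prelude.Def_Spor_Conway
import Cfsg.Prelude.Def_Sporadic

/-!
# The McLaughlin group in the lattice is simple
-/

set_option autoImplicit false

namespace Cfsg.Agent.McLSimple

open Cfsg CfsgLib CfsgLib.Golay MulAction

attribute [local irreducible] CfsgLib.Leech.shortVecs CfsgLib.Leech.halfTable CfsgLib.Leech.quarterTable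

/-- The stabiliser of the two vectors. -/
def mclStab : Subgroup Co0 := stabilizer Co0 Spor.leechV ⊓ stabilizer Co0 Spor.leechU

lemma sq_vecV : sqNorm Spor.vecV = 48 := by decide +kernel
lemma sq_vecU : sqNorm Spor.vecU = 32 := by decide +kernel
lemma sq_vecU' : sqNorm Spor.vecU' = 32 := by decide +kernel

lemma dot_vecV (x : GolayPt → ℤ) : dotInt Spor.vecV x = -(∑ p, x p) - 4 * x none := by
  have : ∀ p, Spor.vecV p * x p = -x p + (if p = none then -4 * x p else 0) := fun p => by
    simp only [Spor.vecV]; split_ifs <;> ring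
  simp only [dotInt, this, Finset.sum_add_distrib, Finset.sum_neg_distrib, Finset.sum_ite_eq',
    Finset.mem_univ, if_true]
  ring

/-- Vectors with the same invariants as the third vector. -/
def InZ (x : GolayPt → ℤ) : Prop :=
  sqNorm x = 32 ∧ (∑ p, x p) + 4 * x none = 16 ∧ x none + x (some 0) = 0

lemma inZ_base : InZ Spor.vecU' := by unfold InZ; decide +kernel

lemma inZ_smul {g : Co0} (hg : g ∈ mclStab) {x : leechLattice} (hx : InZ x) : InZ (g • x : leechLattice) := by
  obtain ⟨h1, h2, h3⟩ := hx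
  refine ⟨(Leech.sqNorm_smul g x).trans h1, ?_, ?_⟩
  · have := Leech.dot_smul' g Spor.leechV x
    rw [show g • Spor.leechV = Spor.leechV from hg.1] at this
    change dotInt Spor.vecV _ = dotInt Spor.vecV _ at this
    rw [dot_vecV, dot_vecV] at this
    omega
  · have := Leech.dot_smul' g Spor.leechU x
    rw [show g • Spor.leechU = Spor.leechU from hg.2, Leech.dot_U, Leech.dot_U] at this
    omega

/-- An element of order 11 fixing two points. -/
def elevenList : List ℕ := mulL 2

/-- An element of order 7 fixing the same two points. -/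
def sevenList : List ℕ := [0,3,20,7,2,5,8,14,17,4,19,13,9,12,10,1,6,21,22,15,11,18,16,23]

theorem eleven_bij : Function.Bijective fun p : GolayPt => pt (elevenList.getD (idx p) 0) := by
  decide +kernel

theorem seven_bij : Function.Bijective fun p : GolayPt => pt (sevenList.getD (idx p) 0) := by
  decide +kernel

/-- The permutation of order 11. -/
noncomputable def elevenPerm : Equiv.Perm GolayPt := Equiv.ofBijective _ eleven_bij

/-- The permutation of order 7. -/
noncomputable def sevenPerm : Equiv.Perm GolayPt := Equiv.ofBijective _ seven_bij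

lemma toList_of_formula (σ : Equiv.Perm GolayPt) (L : List ℕ) (hσ : ∀ p, σ p = pt (L.getD (idx p) 0))
    (hL : ((List.range 24).map fun i => idx (pt (L.getD (idx (pt i)) 0))) = L) : toList σ = L := by
  conv_rhs => rw [← hL]
  simp only [toList, hσ]

lemma elevenPerm_mem : elevenPerm ∈ M24 := by
  apply mem_M24_of_preserves
  rw [toList_of_formula elevenPerm elevenList (fun p => rfl) (by decide +kernel)]
  unfold PreservesCode
  decide +kernel

lemma sevenPerm_mem : sevenPerm ∈ M24 := by
  apply mem_M24_of_preserves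
  rw [toList_of_formula sevenPerm sevenList (fun p => rfl) (by decide +kernel)]
  unfold PreservesCode
  decide +kernel

lemma iterate_formula (σ : Equiv.Perm GolayPt) (n : ℕ) (f : GolayPt → GolayPt) (hσ : ∀ p, σ p = f p)
    (h : ∀ p, f^[n] p = p) : σ ^ n = 1 := Equiv.ext fun p => by
  rw [Equiv.Perm.coe_pow, Equiv.Perm.one_apply, show ⇑σ = f from funext hσ, h]

lemma order_eleven : orderOf (⟨elevenPerm, elevenPerm_mem⟩ : M24) = 11 := by
  haveI : Fact (Nat.Prime 11) := ⟨by norm_num⟩
  rw [Subgroup.orderOf_mk]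
  refine orderOf_eq_prime (iterate_formula _ 11 _ (fun p => rfl) (by decide +kernel)) fun h => ?_
  have : pt (elevenList.getD (idx (some 1)) 0) = some 1 := Equiv.congr_fun h (some 1)
  revert this
  decide +kernel

lemma order_seven : orderOf (⟨sevenPerm, sevenPerm_mem⟩ : M24) = 7 := by
  haveI : Fact (Nat.Prime 7) := ⟨by norm_num⟩
  rw [Subgroup.orderOf_mk]
  refine orderOf_eq_prime (iterate_formula _ 7 _ (fun p => rfl) (by decide +kernel)) fun h => ?_
  have : pt (sevenList.getD (idx (some 1)) 0) = some 1 := Equiv.congr_fun h (some 1)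
  revert this
  decide +kernel

/-- A representative for each of the orbits of the element of order 11 on the 22 other points. -/
def elevenRep (p : GolayPt) : GolayPt :=
  if idx p = 23 ∨ idx p = 0 then p
  else if [1,2,4,8,16,9,18,13,3,6,12].contains (idx p) then pt 1 else pt 5

/-- A representative for each orbit of the element of order 7. -/
def sevenRep (p : GolayPt) : GolayPt :=
  if idx p = 23 ∨ idx p = 0 ∨ idx p = 5 then p
  else if [1,3,7,14,10,19,15].contains (idx p) then pt 1
  else if [2,20,11,13,12,9,4].contains (idx p) then pt 2 else pt 6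

theorem eleven_reach : ∀ p, ∃ k < 11, (fun p : GolayPt => pt (elevenList.getD (idx p) 0))^[k] (elevenRep p) = p := by
  decide +kernel

theorem seven_reach : ∀ p, ∃ k < 7, (fun p : GolayPt => pt (sevenList.getD (idx p) 0))^[k] (sevenRep p) = p := by
  decide +kernel

lemma const_of_fixed (σ : M24) (f : GolayPt → GolayPt) (hσ : ∀ p, (σ : Equiv.Perm GolayPt) p = f p)
    (rep : GolayPt → GolayPt) (n : ℕ) (hrep : ∀ p, ∃ k < n, f^[k] (rep p) = p) {x : leechLattice}
    (hx : Leech.permHom σ • x = x) (p : GolayPt) :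
    (x : GolayPt → ℤ) p = (x : GolayPt → ℤ) (rep p) := by
  have h1 : ∀ q, (x : GolayPt → ℤ) (f q) = (x : GolayPt → ℤ) q := fun q => by
    have := congrFun (congrArg Subtype.val hx) (f q)
    rw [Leech.permHom_apply, ← hσ, Equiv.Perm.inv_def, Equiv.symm_apply_apply] at this
    rw [← hσ]
    exact this.symm
  obtain ⟨k, -, hk⟩ := hrep p
  have h2 : ∀ (m : ℕ) q, (x : GolayPt → ℤ) (f^[m] q) = (x : GolayPt → ℤ) q := by
    intro m
    induction m with
    | zero => intro q; rfl
    | succ m ih => intro q; rw [Function.iterate_succ_apply', h1, ih]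
  conv_lhs => rw [← hk]
  exact h2 k _

/-- A value in a small range. -/
def rng : List ℤ := [-4, -3, -2, -1, 0, 1, 2, 3, 4]

lemma mem_rng {x : leechLattice} (hn : sqNorm (x : GolayPt → ℤ) = 32) (p : GolayPt) :
    (x : GolayPt → ℤ) p ∈ rng := by
  have := Leech.PinCount.min_value_le x.2 hn p
  simp only [rng, List.mem_cons, List.not_mem_nil, or_false]
  omega

theorem eleven_solutions : ∀ a ∈ rng, ∀ c ∈ rng, ∀ d ∈ rng,
    2 * (a * a) + 11 * (c * c + d * d) = 32 → 4 * a + 11 * (c + d) = 16 → a = 4 ∧ c = 0 ∧ d = 0 := by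
  decide +kernel

/-- One candidate for the values of a vector fixed by the element of order 7. -/
def sevenOK (a c e₁ e₂ e₃ : ℤ) : Bool :=
  !(decide (2 * (a * a) + c * c + 7 * (e₁ * e₁ + e₂ * e₂ + e₃ * e₃) = 32) &&
      decide (4 * a + c + 7 * (e₁ + e₂ + e₃) = 16)) ||
    [(4, 0, 0, 0, 0), (0, 2, 2, 0, 0), (0, 2, 0, 2, 0), (0, 2, 0, 0, 2)].contains (a, c, e₁, e₂, e₃)

theorem sevenOK_all :
    (rng.all fun a => rng.all fun c => rng.all fun e₁ => rng.all fun e₂ => rng.all fun e₃ =>
      sevenOK a c e₁ e₂ e₃) = true := by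
  decide +kernel

theorem seven_solutions (a : ℤ) (ha : a ∈ rng) (c : ℤ) (hc : c ∈ rng) (e₁ : ℤ) (h1 : e₁ ∈ rng)
    (e₂ : ℤ) (h2 : e₂ ∈ rng) (e₃ : ℤ) (h3 : e₃ ∈ rng)
    (hn : 2 * (a * a) + c * c + 7 * (e₁ * e₁ + e₂ * e₂ + e₃ * e₃) = 32)
    (hs : 4 * a + c + 7 * (e₁ + e₂ + e₃) = 16) :
      (a = 4 ∧ c = 0 ∧ e₁ = 0 ∧ e₂ = 0 ∧ e₃ = 0) ∨ (a = 0 ∧ c = 2 ∧
        ((e₁ = 2 ∧ e₂ = 0 ∧ e₃ = 0) ∨ (e₁ = 0 ∧ e₂ = 2 ∧ e₃ = 0) ∨ (e₁ = 0 ∧ e₂ = 0 ∧ e₃ = 2))) := by
  have h5 := List.all_eq_true.mp (List.all_eq_true.mp (List.all_eq_true.mp (List.all_eq_true.mp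
    (List.all_eq_true.mp sevenOK_all a ha) c hc) e₁ h1) e₂ h2) e₃ h3
  simp only [sevenOK, hn, hs, decide_true, Bool.and_self, Bool.not_true, Bool.false_or,
    List.contains_iff_mem, List.mem_cons, Prod.mk.injEq, List.not_mem_nil, or_false] at h5
  rcases h5 with ⟨r1, r2, r3, r4, r5⟩ | ⟨r1, r2, r3, r4, r5⟩ | ⟨r1, r2, r3, r4, r5⟩ | ⟨r1, r2, r3, r4, r5⟩
  · exact Or.inl ⟨r1, r2, r3, r4, r5⟩
  · exact Or.inr ⟨r1, r2, Or.inl ⟨r3, r4, r5⟩⟩
  · exact Or.inr ⟨r1, r2, Or.inr (Or.inl ⟨r3, r4, r5⟩)⟩
  · exact Or.inr ⟨r1, r2, Or.inr (Or.inr ⟨r3, r4, r5⟩)⟩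

lemma eleven_split (f : GolayPt → ℤ) :
    ∑ p, f (elevenRep p) = f none + f (some 0) + 11 * f (pt 1) + 11 * f (pt 5) := by
  have h : (Finset.univ : Finset GolayPt).image elevenRep = {none, some 0, pt 1, pt 5} := by decide +kernel
  rw [← Finset.sum_fiberwise_of_maps_to (t := {none, some 0, pt 1, pt 5}) (g := elevenRep)
    (fun p hp => h ▸ Finset.mem_image_of_mem _ hp)]
  rw [Finset.sum_congr rfl fun q _ => Finset.sum_congr rfl (g := fun _ => f q) fun p hp => by
    rw [(Finset.mem_filter.mp hp).2]]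
  have c1 : ((Finset.univ : Finset GolayPt).filter fun p => elevenRep p = none).card = 1 := by decide +kernel
  have c2 : ((Finset.univ : Finset GolayPt).filter fun p => elevenRep p = some 0).card = 1 := by decide +kernel
  have c3 : ((Finset.univ : Finset GolayPt).filter fun p => elevenRep p = pt 1).card = 11 := by decide +kernel
  have c4 : ((Finset.univ : Finset GolayPt).filter fun p => elevenRep p = pt 5).card = 11 := by decide +kernel
  rw [Finset.sum_insert (by decide +kernel), Finset.sum_insert (by decide +kernel), Finset.sum_pair (by decide +kernel)]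
  simp only [Finset.sum_const, c1, c2, c3, c4, nsmul_eq_mul, Nat.cast_one, one_mul, Nat.cast_ofNat]
  ring

lemma seven_split (f : GolayPt → ℤ) :
    ∑ p, f (sevenRep p) = f none + f (some 0) + f (pt 5) + 7 * f (pt 1) + 7 * f (pt 2) + 7 * f (pt 6) := by
  have h : (Finset.univ : Finset GolayPt).image sevenRep = {none, some 0, pt 5, pt 1, pt 2, pt 6} := by
    decide +kernel
  rw [← Finset.sum_fiberwise_of_maps_to (t := {none, some 0, pt 5, pt 1, pt 2, pt 6}) (g := sevenRep)
    (fun p hp => h ▸ Finset.mem_image_of_mem _ hp)]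
  rw [Finset.sum_congr rfl fun q _ => Finset.sum_congr rfl (g := fun _ => f q) fun p hp => by
    rw [(Finset.mem_filter.mp hp).2]]
  have c1 : ((Finset.univ : Finset GolayPt).filter fun p => sevenRep p = none).card = 1 := by decide +kernel
  have c2 : ((Finset.univ : Finset GolayPt).filter fun p => sevenRep p = some 0).card = 1 := by decide +kernel
  have c3 : ((Finset.univ : Finset GolayPt).filter fun p => sevenRep p = pt 5).card = 1 := by decide +kernel
  have c4 : ((Finset.univ : Finset GolayPt).filter fun p => sevenRep p = pt 1).card = 7 := by decide +kernel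
  have c5 : ((Finset.univ : Finset GolayPt).filter fun p => sevenRep p = pt 2).card = 7 := by decide +kernel
  have c6 : ((Finset.univ : Finset GolayPt).filter fun p => sevenRep p = pt 6).card = 7 := by decide +kernel
  rw [Finset.sum_insert (by decide +kernel), Finset.sum_insert (by decide +kernel),
    Finset.sum_insert (by decide +kernel), Finset.sum_insert (by decide +kernel), Finset.sum_pair (by decide +kernel)]
  simp only [Finset.sum_const, c1, c2, c3, c4, c5, c6, nsmul_eq_mul, Nat.cast_one, one_mul, Nat.cast_ofNat]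
  ring

/-- The lift of a permutation fixing the two distinguished points. -/
lemma permHom_mem_stab {σ : M24} (h0 : (σ : Equiv.Perm GolayPt) none = none)
    (h1 : (σ : Equiv.Perm GolayPt) (some 0) = some 0) :
    Leech.permHom σ • Spor.leechV = Spor.leechV ∧ Leech.permHom σ • Spor.leechU = Spor.leechU ∧
      Leech.permHom σ • Spor.leechU' = Spor.leechU' := by
  have key : ∀ v : leechLattice, (∀ p q : GolayPt, p ≠ none → p ≠ some 0 → q ≠ none → q ≠ some 0 →
      (v : GolayPt → ℤ) p = (v : GolayPt → ℤ) q) → Leech.permHom σ • v = v := by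
    intro v hv
    refine Subtype.ext (funext fun i => ?_)
    rw [Leech.permHom_apply, Equiv.Perm.inv_def]
    by_cases hi : i = none
    · subst hi; rw [(Equiv.symm_apply_eq _).mpr h0.symm]
    by_cases hi' : i = some 0
    · subst hi'; rw [(Equiv.symm_apply_eq _).mpr h1.symm]
    refine hv _ _ ?_ ?_ hi hi' <;> intro h <;> rw [Equiv.symm_apply_eq] at h
    · exact hi (h.trans h0)
    · exact hi' (h.trans h1)
  refine ⟨key _ ?_, key _ ?_, key _ ?_⟩ <;> intro p q hp hp' hq hq'
  · show Spor.vecV p = Spor.vecV q; simp [Spor.vecV, hp, hq]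
  · show Spor.vecU p = Spor.vecU q; simp [Spor.vecU, hp, hq, hp', hq']
  · show Spor.vecU' p = Spor.vecU' q; simp [Spor.vecU', hp, hq, hp', hq']

/-- The group fixing all three vectors. -/
def tripleStab : Subgroup Co0 := mclStab ⊓ stabilizer Co0 Spor.leechU'

lemma exists_perm_of_fix {g : Co0} (hg : g ∈ tripleStab) :
    ∃ σ : M24, (σ : Equiv.Perm GolayPt) none = none ∧ (σ : Equiv.Perm GolayPt) (some 0) = some 0 ∧
      Leech.permHom σ = g := by
  have hsum : Spor.leechU + Spor.leechU' = Leech.eightAt none := by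
    refine Subtype.ext (funext fun p => ?_)
    rw [Leech.eightAt_apply]
    show Spor.vecU p + Spor.vecU' p = _
    simp only [Spor.vecU, Spor.vecU']
    split_ifs <;> simp_all
  have hdiff : Spor.leechU - Spor.leechU' = Leech.eightAt (some 0) := by
    refine Subtype.ext (funext fun p => ?_)
    rw [Leech.eightAt_apply]
    show Spor.vecU p - Spor.vecU' p = _
    simp only [Spor.vecU, Spor.vecU']
    split_ifs <;> simp_all
  have e8 : g • Leech.eightAt none = Leech.eightAt none := by
    rw [← hsum, Leech.smul_add', show g • Spor.leechU = Spor.leechU from hg.1.2,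
      show g • Spor.leechU' = Spor.leechU' from hg.2]
  have e80 : g • Leech.eightAt (some 0) = Leech.eightAt (some 0) := by
    rw [← hdiff, Leech.smul_sub', show g • Spor.leechU = Spor.leechU from hg.1.2,
      show g • Spor.leechU' = Spor.leechU' from hg.2]
  obtain ⟨⟨w, σ⟩, hwσ⟩ := Leech.exists_monoAut (g := g) (by rw [e8])
  have hq : ∀ q, g • Leech.eightAt q = Leech.eightAt q → (σ : Equiv.Perm GolayPt) q = q := by
    intro q hfix
    have h := congrFun (congrArg Subtype.val hfix) q
    rw [← hwσ, Leech.monoAut_eightAt] at h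
    by_contra hne
    simp only [Leech.flipSign, Leech.eightAt_apply, if_neg (Ne.symm hne), if_true] at h
    split_ifs at h <;> omega
  have hσ0 := hq _ e8
  have hσ1 := hq _ e80
  refine ⟨σ, hσ0, hσ1, ?_⟩
  have hw : w = 0 := by
    refine Subtype.ext (funext fun i => ?_)
    rcases Leech.eq_zero_or_one ((w : GolayPt → ZMod 2) i) with e | e
    · exact e
    exfalso
    have hV : Leech.monoAut (w, σ) • Spor.leechV = Spor.leechV := by rw [hwσ]; exact hg.1.1
    rw [Leech.monoAut, mul_smul, (permHom_mem_stab hσ0 hσ1).1] at hV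
    have := congrFun (congrArg Subtype.val hV) i
    rw [Leech.signAut_apply] at this
    simp only [Leech.flipSign, e, if_true] at this
    have hne : Spor.vecV i ≠ 0 := by simp only [Spor.vecV]; split_ifs <;> norm_num
    exact hne (by change -Spor.vecV i = Spor.vecV i at this; omega)
  rw [← hwσ, hw, Leech.monoAut, Leech.signAut_zero, one_mul]

/-- The small stabiliser is the pair stabiliser in the group of the code. -/
noncomputable def tripleEquiv :
    ↥(stabilizer M24 (none : GolayPt) ⊓ stabilizer M24 (some 0 : GolayPt)) ≃* tripleStab :=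
  MulEquiv.ofBijective
    ((Leech.permHom.comp (stabilizer M24 (none : GolayPt) ⊓ stabilizer M24 (some 0 : GolayPt)).subtype).codRestrict
      tripleStab fun σ => ⟨⟨(permHom_mem_stab σ.2.1 σ.2.2).1, (permHom_mem_stab σ.2.1 σ.2.2).2.1⟩,
        (permHom_mem_stab σ.2.1 σ.2.2).2.2⟩) <| by
    constructor
    · intro σ τ h
      have h' : Leech.monoAut (0, (σ : M24)) = Leech.monoAut (0, (τ : M24)) := by
        rw [Leech.monoAut, Leech.monoAut]
        exact congrArg (Leech.signAut 0 * ·) (congrArg Subtype.val h)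
      exact Subtype.ext (Prod.ext_iff.mp (Leech.monoAut_injective h')).2
    · intro g
      obtain ⟨σ, h0, h1, e⟩ := exists_perm_of_fix g.2
      exact ⟨⟨σ, h0, h1⟩, Subtype.ext e⟩

lemma card_mclStab : Nat.card mclStab = 898128000 := by
  have hu : sqNorm (Spor.leechU : GolayPt → ℤ) = 32 := sq_vecU
  set w : leechLattice := -(Spor.leechU + Spor.leechV) with hw
  have hwn : sqNorm (w : GolayPt → ℤ) = 32 := by
    show sqNorm (-(Spor.vecU + Spor.vecV)) = 32
    decide +kernel
  have hwd : dotInt (Spor.leechU : GolayPt → ℤ) (w : GolayPt → ℤ) = -8 := by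
    show dotInt Spor.vecU (-(Spor.vecU + Spor.vecV)) = -8
    decide +kernel
  have horb : (orbit (stabilizer Co0 Spor.leechU) w).ncard = 47104 := by
    rw [← Leech.ncard_dot_eight Spor.leechU.2 hu,
      ← Leech.ncard_coe fun x => sqNorm x = 32 ∧ dotInt (Spor.leechU : GolayPt → ℤ) x = -8]
    congr 1
    ext x
    constructor
    · rintro ⟨⟨g, hg⟩, rfl⟩
      refine ⟨(Leech.sqNorm_smul g _).trans hwn, ?_⟩
      have := Leech.dot_smul' g Spor.leechU w
      rw [show g • Spor.leechU = Spor.leechU from hg] at this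
      exact this.trans hwd
    · rintro ⟨hx, hxd⟩
      obtain ⟨g, hg1, hg2⟩ := Leech.orbit_eight hwn hx hwd hxd
      exact ⟨⟨g, hg1⟩, hg2⟩
  have hiff : ∀ g : Co0, g • Spor.leechU = Spor.leechU → (g • w = w ↔ g • Spor.leechV = Spor.leechV) := by
    intro g hg
    rw [hw, Leech.smul_neg', Leech.smul_add', hg, neg_inj, add_right_inj]
  have he : Nat.card (stabilizer (stabilizer Co0 Spor.leechU) w) = Nat.card mclStab :=
    Nat.card_congr
      { toFun := fun g => ⟨g.1.1, (hiff _ g.1.2).mp g.2, g.1.2⟩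
        invFun := fun g => ⟨⟨g.1, g.2.2⟩, (hiff _ g.2.2).mpr g.2.1⟩
        left_inv := fun g => rfl
        right_inv := fun g => rfl }
  have h := (stabilizer (stabilizer Co0 Spor.leechU) w).card_mul_index
  have hi : (stabilizer (stabilizer Co0 Spor.leechU) w).index = 47104 :=
    (index_stabilizer _ _).trans horb
  have h' : Nat.card mclStab * 47104 = 898128000 * 47104 := by
    rw [← he, ← hi, h, Leech.card_stabilizer_32 hu, hi]
  exact Nat.eq_of_mul_eq_mul_right (by norm_num) h'

theorem simple_mclStab : IsSimpleGroup mclStab := by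
  let z : leechLattice := Spor.leechU'
  let X := orbit mclStab z
  let zX : X := ⟨z, mem_orbit_self z⟩
  have hstab : ∀ g : mclStab, g ∈ stabilizer mclStab zX ↔ (g : Co0) ∈ tripleStab := fun g =>
    ⟨fun h => ⟨g.2, congrArg Subtype.val h⟩, fun h => Subtype.ext h.2⟩
  let E : ↥(stabilizer mclStab zX) ≃* tripleStab :=
    { toFun := fun g => ⟨g.1.1, (hstab g.1).mp g.2⟩
      invFun := fun g => ⟨⟨g.1, g.2.1⟩, (hstab _).mpr g.2⟩
      left_inv := fun g => rfl
      right_inv := fun g => rfl
      map_mul' := fun a b => rfl }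
  haveI := m22_simple none (some 0) (by simp)
  haveI : IsSimpleGroup ↥(stabilizer mclStab zX) := (E.trans tripleEquiv.symm).isSimpleGroup
  haveI : Finite mclStab := Nat.finite_of_card_ne_zero (by rw [card_mclStab]; norm_num)
  have hX : Nat.card X = 2025 := by
    have hs : Nat.card ↥(stabilizer mclStab zX) = 443520 := by
      rw [Nat.card_congr (E.trans tripleEquiv.symm).toEquiv, card_stab_pair none (some 0) (by simp)]
    have h := (stabilizer mclStab zX).card_mul_index
    rw [index_stabilizer_of_transitive, hs, card_mclStab] at h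
    omega
  have hinZ : ∀ x : X, InZ ((x.1 : leechLattice) : GolayPt → ℤ) := by
    rintro ⟨_, g, rfl⟩
    exact inZ_smul g.2 inZ_base
  let tσ : ↥(stabilizer M24 (none : GolayPt) ⊓ stabilizer M24 (some 0 : GolayPt)) :=
    ⟨⟨elevenPerm, elevenPerm_mem⟩, (by decide +kernel : pt (elevenList.getD (idx none) 0) = none),
      (by decide +kernel : pt (elevenList.getD (idx (some 0)) 0) = some 0)⟩
  let sσ : ↥(stabilizer M24 (none : GolayPt) ⊓ stabilizer M24 (some 0 : GolayPt)) :=
    ⟨⟨sevenPerm, sevenPerm_mem⟩, (by decide +kernel : pt (sevenList.getD (idx none) 0) = none),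
      (by decide +kernel : pt (sevenList.getD (idx (some 0)) 0) = some 0)⟩
  let t : ↥(stabilizer mclStab zX) := E.symm (tripleEquiv tσ)
  let s : ↥(stabilizer mclStab zX) := E.symm (tripleEquiv sσ)
  have hot : orderOf (t : mclStab) = 11 := by
    rw [Subgroup.orderOf_coe, MulEquiv.orderOf_eq, MulEquiv.orderOf_eq, ← Subgroup.orderOf_coe]
    exact order_eleven
  have hos : orderOf (s : mclStab) = 7 := by
    rw [Subgroup.orderOf_coe, MulEquiv.orderOf_eq, MulEquiv.orderOf_eq, ← Subgroup.orderOf_coe]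
    exact order_seven
  have hU' : ∀ x : X, (x.1 : GolayPt → ℤ) = Spor.vecU' → x = zX := fun x h => Subtype.ext (Subtype.ext h)
  have htfix : ∀ x : X, (t : mclStab) • x = x → x = zX := by
    intro x hx
    obtain ⟨hn, hs, h0⟩ := hinZ x
    have hc := const_of_fixed ⟨elevenPerm, elevenPerm_mem⟩ _ (fun p => rfl) elevenRep 11 eleven_reach
      (x := x.1) (congrArg Subtype.val hx)
    have h1 := eleven_split fun p => (x.1 : GolayPt → ℤ) p
    rw [← Finset.sum_congr rfl fun p _ => hc p] at h1
    have h2 := eleven_split fun p => ((x.1 : GolayPt → ℤ) p) ^ 2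
    rw [← Finset.sum_congr rfl fun p _ => congrArg (fun v : ℤ => v ^ 2) (hc p)] at h2
    change sqNorm (x.1 : GolayPt → ℤ) = _ at h2
    rw [hn] at h2
    rw [h1] at hs
    have h0' : (x.1 : GolayPt → ℤ) (some 0) = -(x.1 : GolayPt → ℤ) none := by omega
    rw [h0'] at hs h2
    obtain ⟨ha, hc', hd⟩ := eleven_solutions _ (mem_rng hn none) _ (mem_rng hn (pt 1)) _ (mem_rng hn (pt 5))
      (by linarith) (by linarith)
    refine hU' x (funext fun p => ?_)
    have hp : elevenRep p = none ∧ p = none ∨ elevenRep p = some 0 ∧ p = some 0 ∨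
        (elevenRep p = pt 1 ∨ elevenRep p = pt 5) ∧ p ≠ none ∧ p ≠ some 0 := by
      revert p; decide +kernel
    rcases hp with ⟨-, rfl⟩ | ⟨-, rfl⟩ | ⟨hr, hp0, hp1⟩
    · rw [ha]; rfl
    · rw [h0', ha]; rfl
    · rw [hc p]
      simp only [Spor.vecU', if_neg hp0, if_neg hp1]
      rcases hr with e | e <;> rw [e] <;> assumption
  let extra : GolayPt → ℤ := fun p => if sevenRep p = pt 5 ∨ sevenRep p = pt 6 then 2 else 0
  have hsfix : ∀ x : X, (s : mclStab) • x = x → x = zX ∨ (x.1 : GolayPt → ℤ) = extra := by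
    intro x hx
    obtain ⟨hn, hs, h0⟩ := hinZ x
    have hc := const_of_fixed ⟨sevenPerm, sevenPerm_mem⟩ _ (fun p => rfl) sevenRep 7 seven_reach
      (x := x.1) (congrArg Subtype.val hx)
    have h1 := seven_split fun p => (x.1 : GolayPt → ℤ) p
    rw [← Finset.sum_congr rfl fun p _ => hc p] at h1
    have h2 := seven_split fun p => ((x.1 : GolayPt → ℤ) p) ^ 2
    rw [← Finset.sum_congr rfl fun p _ => congrArg (fun v : ℤ => v ^ 2) (hc p)] at h2
    change sqNorm (x.1 : GolayPt → ℤ) = _ at h2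
    rw [hn] at h2
    rw [h1] at hs
    have h0' : (x.1 : GolayPt → ℤ) (some 0) = -(x.1 : GolayPt → ℤ) none := by omega
    rw [h0'] at hs h2
    have hsol := seven_solutions _ (mem_rng hn none) _ (mem_rng hn (pt 5)) _ (mem_rng hn (pt 1))
      _ (mem_rng hn (pt 2)) _ (mem_rng hn (pt 6)) (by linarith) (by linarith)
    set F := fun a c e₁ e₂ e₃ : ℤ => fun p : GolayPt =>
      if sevenRep p = none then a else if sevenRep p = some 0 then -a else if sevenRep p = pt 5 then c
      else if sevenRep p = pt 1 then e₁ else if sevenRep p = pt 2 then e₂ else e₃ with hF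
    have hp : ∀ p, sevenRep p = none ∨ sevenRep p = some 0 ∨ sevenRep p = pt 5 ∨ sevenRep p = pt 1 ∨
        sevenRep p = pt 2 ∨ (sevenRep p = pt 6 ∧ sevenRep p ≠ none ∧ sevenRep p ≠ some 0 ∧ sevenRep p ≠ pt 5 ∧
          sevenRep p ≠ pt 1 ∧ sevenRep p ≠ pt 2) := by decide +kernel
    have hd : (none : GolayPt) ≠ some 0 ∧ (none : GolayPt) ≠ pt 5 ∧ (some 0 : GolayPt) ≠ pt 5 ∧
        pt 1 ≠ none ∧ pt 1 ≠ some 0 ∧ pt 1 ≠ pt 5 ∧ pt 2 ≠ none ∧ pt 2 ≠ some 0 ∧ pt 2 ≠ pt 5 ∧ pt 2 ≠ pt 1 := by
      decide +kernel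
    obtain ⟨d1, d2, d3, d4, d5, d6, d7, d8, d9, d10⟩ := hd
    have hxF : (x.1 : GolayPt → ℤ) = F ((x.1 : GolayPt → ℤ) none) ((x.1 : GolayPt → ℤ) (pt 5))
        ((x.1 : GolayPt → ℤ) (pt 1)) ((x.1 : GolayPt → ℤ) (pt 2)) ((x.1 : GolayPt → ℤ) (pt 6)) := by
      funext p
      rw [hc p]
      simp only [hF]
      rcases hp p with e | e | e | e | e | ⟨e, n1, n2, n3, n4, n5⟩
      · rw [if_pos e, e]
      · rw [e, if_neg d1.symm, if_pos rfl, h0']
      · rw [e, if_neg d2.symm, if_neg d3.symm, if_pos rfl]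
      · rw [e, if_neg d4, if_neg d5, if_neg d6, if_pos rfl]
      · rw [e, if_neg d7, if_neg d8, if_neg d9, if_neg d10, if_pos rfl]
      · rw [if_neg n1, if_neg n2, if_neg n3, if_neg n4, if_neg n5, e]
    have hbad : ∀ e₁ e₂ : ℤ, (e₁ = 2 ∧ e₂ = 0) ∨ (e₁ = 0 ∧ e₂ = 2) → F 0 2 e₁ e₂ 0 ∉ leechLattice := by
      intro e₁ e₂ he hmem
      have hcode := (Leech.mem_leech hmem).code
      have t1 : ¬ (word (Leech.hiMask (F 0 2 2 0 0) % 4096) = Leech.hiMask (F 0 2 2 0 0)) := by
        rw [hF]; decide +kernel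
      have t2 : ¬ (word (Leech.hiMask (F 0 2 0 2 0) % 4096) = Leech.hiMask (F 0 2 0 2 0)) := by
        rw [hF]; decide +kernel
      have hm : ∀ y : GolayPt → ℤ, Leech.hi y = vec (Leech.hiMask y) → Leech.hiMask y < 2 ^ 24 →
          Leech.hi y ∈ golayCode → word (Leech.hiMask y % 4096) = Leech.hiMask y := by
        intro y hy hlt hc
        obtain ⟨c, hc', hce⟩ := (mem_code_iff _).mp hc
        have : Leech.hiMask y = word c := vec_inj hlt (word_lt c hc') (hy.symm.trans hce)
        rw [this, word_mod c hc']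
      rcases he with ⟨rfl, rfl⟩ | ⟨rfl, rfl⟩
      · exact t1 (hm _ (by rw [hF]; funext p; revert p; decide +kernel) (by rw [hF]; decide +kernel) hcode)
      · exact t2 (hm _ (by rw [hF]; funext p; revert p; decide +kernel) (by rw [hF]; decide +kernel) hcode)
    rcases hsol with ⟨ha, hc', he1, he2, he3⟩ | ⟨ha, hc', hcase⟩
    · left
      refine hU' x ?_
      rw [hxF, ha, hc', he1, he2, he3, hF]
      funext p; revert p; decide +kernel
    · right
      rcases hcase with ⟨he1, he2, he3⟩ | ⟨he1, he2, he3⟩ | ⟨he1, he2, he3⟩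
      · exfalso; refine hbad 2 0 (Or.inl ⟨rfl, rfl⟩) ?_
        have hmem := x.1.2
        rw [hxF, ha, hc', he1, he2, he3] at hmem
        exact hmem
      · exfalso; refine hbad 0 2 (Or.inr ⟨rfl, rfl⟩) ?_
        have hmem := x.1.2
        rw [hxF, ha, hc', he1, he2, he3] at hmem
        exact hmem
      · rw [hxF, ha, hc', he1, he2, he3, hF]
        funext p; revert p; decide +kernel
  have hsfix2 : ∃ z' : X, ∀ x : X, (s : mclStab) • x = x → x = zX ∨ x = z' := by
    by_cases hex : ∃ z' : X, (z'.1 : GolayPt → ℤ) = extra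
    · obtain ⟨z', hz'⟩ := hex
      exact ⟨z', fun x hx => (hsfix x hx).imp id fun h => Subtype.ext (Subtype.ext (h.trans hz'.symm))⟩
    · exact ⟨zX, fun x hx => Or.inl ((hsfix x hx).resolve_right fun h => hex ⟨x, h⟩)⟩
  exact isSimpleGroup_2025 zX hX hot hos t.2 s.2 htfix hsfix2

/-- Any such pair of vectors is equivalent to the standard one. -/
theorem exists_to_standard {v w : leechLattice} (hv : sqNorm (v : GolayPt → ℤ) = 32)
    (hw : sqNorm (w : GolayPt → ℤ) = 32) (hvw : dotInt (v : GolayPt → ℤ) (w : GolayPt → ℤ) = -8) :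
    ∃ g : Co0, g • v = Spor.leechU ∧ g • w = -(Spor.leechU + Spor.leechV) := by
  obtain ⟨g₀, hg₀⟩ := Leech.min_orbit hv
  set w₀ : leechLattice := -(Spor.leechU + Spor.leechV) with hw₀
  have hwn : sqNorm (w₀ : GolayPt → ℤ) = 32 := by
    show sqNorm (-(Spor.vecU + Spor.vecV)) = 32
    decide +kernel
  have hwd : dotInt (Spor.leechU : GolayPt → ℤ) (w₀ : GolayPt → ℤ) = -8 := by
    show dotInt Spor.vecU (-(Spor.vecU + Spor.vecV)) = -8
    decide +kernel
  have hd := Leech.dot_smul' g₀ v w
  rw [hg₀, hvw] at hd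
  obtain ⟨g₁, hg₁, hg₁'⟩ := Leech.orbit_eight ((Leech.sqNorm_smul g₀ w).trans hw) hwn hd hwd
  set g := g₁ * g₀ with hg
  have hgv : g • v = Spor.leechU := by rw [hg, mul_smul, hg₀, hg₁]
  have hgw : g • w = w₀ := by rw [hg, mul_smul, hg₁']
  exact ⟨g, hgv, hgw⟩

/-- Any such pair of vectors has such a stabiliser. -/
theorem isMcL_stab {v w : leechLattice} (hv : sqNorm (v : GolayPt → ℤ) = 32)
    (hw : sqNorm (w : GolayPt → ℤ) = 32) (hvw : dotInt (v : GolayPt → ℤ) (w : GolayPt → ℤ) = -8) :
    IsMcL ↥(stabilizer Co0 v ⊓ stabilizer Co0 w) := by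
  obtain ⟨g, hgv, hgw⟩ := exists_to_standard hv hw hvw
  set w₀ : leechLattice := -(Spor.leechU + Spor.leechV) with hw₀
  have hiff : ∀ k : Co0, k ∈ stabilizer Co0 v ⊓ stabilizer Co0 w ↔ g * k * g⁻¹ ∈ mclStab := fun k => by
    have e1 : k • v = v ↔ (g * k * g⁻¹) • Spor.leechU = Spor.leechU := by
      simp [← hgv, mul_smul]
    have e2 : k • w = w ↔ (g * k * g⁻¹) • w₀ = w₀ := by
      simp [← hgw, mul_smul]
    rw [Subgroup.mem_inf, mem_stabilizer_iff, mem_stabilizer_iff, e1, e2]
    constructor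
    · rintro ⟨h1, h2⟩
      rw [hw₀, Leech.smul_neg', Leech.smul_add', h1, neg_inj, add_right_inj] at h2
      exact ⟨h2, h1⟩
    · rintro ⟨h1, h2⟩
      refine ⟨h2, ?_⟩
      rw [hw₀, Leech.smul_neg', Leech.smul_add', show (g * k * g⁻¹) • Spor.leechU = Spor.leechU from h2,
        show (g * k * g⁻¹) • Spor.leechV = Spor.leechV from h1]
  let E : ↥(stabilizer Co0 v ⊓ stabilizer Co0 w) ≃* mclStab :=
    { toFun := fun k => ⟨g * k * g⁻¹, (hiff k).mp k.2⟩
      invFun := fun k => ⟨g⁻¹ * k * g, (hiff _).mpr (by simp [mul_assoc])⟩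
      left_inv := fun k => Subtype.ext (by simp [mul_assoc])
      right_inv := fun k => Subtype.ext (by simp [mul_assoc])
      map_mul' := fun a b => Subtype.ext (by simp [mul_assoc]) }
  haveI := simple_mclStab
  exact ⟨E.isSimpleGroup, (Nat.card_congr E.toEquiv).trans card_mclStab⟩

end Cfsg.Agent.McLSimple
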