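import Cfsg.Agent.McLSimple.OrbitData

/-!
# Words for the action on 275 points
-/

set_option autoImplicit false
set_option maxRecDepth 4000

namespace Cfsg.Agent.McLSimple

/-- Words for block 0. -/
def blocksAll0 : List (List Nat) := [
    [5,3],
    [6,0],
    [3,2],
    [8,0],
    [6,4],
    [4,3],
    [6,1],
    [1],
    [4,0],
    [1,0],
    [0],
    [4],
    [5],
    [7],
    [4,1],
    [2,1],
    [0,0],
    [0,5],
    [1,2],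
    [3],
    [2],
    []]

/-- Words for block 1. -/
def blocksAll1 : List (List Nat) := [
    [2,4],
    [6,2],
    [0],
    [1],
    [6],
    [2,1],
    [5,4],
    [8,1],
    [0,3],
    [1,1],
    [0,0],
    [8,8],
    [4],
    [6,5,0],
    [1,5],
    [7,5],
    [6,8],
    [0,5],
    [3,8],
    [7],
    [4,3],
    [4,1],
    [6,3],
    [4,8,1],
    [8,0,0],
    [6,1],
    [8,0],
    [4,0],
    [7,4],
    [5,6,0],
    [8,5,0],
    [7,5,1],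
    [4,2],
    [5,0,0],
    [8],
    [3,5,0],
    [5,1],
    [0,4],
    [2,2],
    [5,8,0],
    [4,5],
    [1,0],
    [5,6],
    [8,2],
    [1,4,1],
    [6,1,1],
    [4,4,0],
    [7,8],
    [1,4,0],
    [7,7],
    [8,4],
    [5,5],
    [5,3],
    [2],
    [1,4],
    [6,0],
    [],
    [2,4,1],
    [6,6,1],
    [3,2],
    [7,1,0],
    [3,2,1],
    [5],
    [8,7,0],
    [1,8],
    [7,0],
    [3,6],
    [8,7],
    [3],
    [3,3],
    [5,7,0],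
    [1,2],
    [7,3],
    [7,8,0],
    [2,3],
    [3,7],
    [5,0]]

/-- Words for block 2. -/
def blocksAll2 : List (List Nat) := [
    [7,5,3],
    [1,0,8],
    [4,6,3],
    [1,5,1],
    [3,2],
    [2,7,1],
    [6,2,1],
    [3,0,0],
    [8,2,2],
    [0,1],
    [6,6,1],
    [8,6,1],
    [7,1],
    [8,1],
    [0,8,0],
    [],
    [6,7],
    [5,7],
    [8,2],
    [2,1,0],
    [6,1,2],
    [6,2],
    [3,7,1],
    [4,5,0],
    [0,1,5],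
    [6,3,0],
    [7,6,0],
    [7,7,5],
    [4,2,3],
    [2,6],
    [6,1],
    [6,6,0],
    [7,8,0],
    [6,8,0],
    [4,7],
    [2,6,5],
    [5,4],
    [6,8,4],
    [4,5,1],
    [6,0,0],
    [5],
    [4,3],
    [6,2,6],
    [4,1,0],
    [8,4,0],
    [8,0,0],
    [1,4,1],
    [4,8],
    [0],
    [3,3],
    [5,6,3],
    [8,4,1],
    [7,0],
    [7,5,7],
    [8,6,0],
    [0,0,1],
    [2,8,1],
    [8,5,0],
    [7,2,4],
    [0,6,0],
    [7,0,0],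
    [4],
    [5,0],
    [7,8],
    [5,2,3],
    [1,2,3],
    [0,7],
    [7,3],
    [3,7],
    [2],
    [1,6],
    [0,5,8],
    [0,1,2],
    [1],
    [6,7,3],
    [5,4,3],
    [8,0],
    [1,5],
    [6,5],
    [0,4,0],
    [3,8,4],
    [2,5],
    [5,5,2],
    [6,3],
    [8,4,2],
    [3,5,2],
    [3,4,0],
    [3,6,0],
    [0,3,0],
    [5,7,1],
    [3,2,2],
    [6,5,1],
    [6],
    [5,1,0],
    [3,2,1],
    [4,4,0],
    [4,7,3],
    [4,3,2],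
    [8,7,0],
    [6,0],
    [2,2],
    [8,8],
    [4,1],
    [3,0],
    [7,5,1],
    [4,6],
    [5,2,1],
    [6,8],
    [4,4],
    [0,3],
    [5,7,3],
    [4,2],
    [5,1],
    [0,4,8],
    [3],
    [1,0],
    [5,4,2],
    [8,0,3],
    [0,8],
    [8,1,0],
    [8,7,3],
    [4,0,1],
    [0,5,1],
    [8,4,3],
    [7],
    [0,0],
    [8,4],
    [3,4],
    [1,2],
    [3,8],
    [1,0,1],
    [1,8,1],
    [5,5],
    [2,4],
    [7,3,0],
    [6,5,3],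
    [2,1],
    [5,3,4],
    [5,8],
    [3,6],
    [2,6,3],
    [4,0],
    [5,2],
    [4,8,3],
    [2,3,0],
    [1,1,2],
    [8],
    [3,2,5],
    [1,8],
    [7,7,1],
    [3,0,3],
    [2,4,0],
    [2,2,1],
    [1,0,0],
    [4,5],
    [0,0,3],
    [2,4,2],
    [7,6],
    [2,3],
    [7,5],
    [5,7,0],
    [2,2,2],
    [4,3,0],
    [5,3],
    [8,3],
    [7,2],
    [1,4,0],
    [8,5],
    [6,7,2],
    [8,8,1],
    [2,7],
    [7,0,3],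
    [4,2,2],
    [0,6,8],
    [6,7,1],
    [6,1,0]]

/-- The blocks of the 275 points. -/
def blocksAll : List (List Int × List (List Nat)) := [
  ([0,4,0,0,0,0,0,0,0,0,0,0,0,0,0,0,0,0,0,0,0,0,0,4], blocksAll0),
  ([2,2,0,0,0,0,0,0,0,0,0,0,0,2,0,2,0,2,2,2,0,0,0,2], blocksAll1),
  ([1,-1,-1,1,1,1,1,1,1,1,1,1,1,1,-1,1,-1,1,-1,-1,-1,1,1,3], blocksAll2)]

/-- A point of the first block. -/
def ptA : List Int := [0,4,0,0,0,0,0,0,0,0,0,0,0,0,0,0,0,0,0,0,0,0,0,4]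

/-- A point of the second block. -/
def ptB : List Int := [2,2,0,0,0,0,0,0,0,0,0,0,0,2,0,2,0,2,2,2,0,0,0,2]

/-- Words for block 0. -/
def blocksAEight0 : List (List Nat) := [
    [7,6,0],
    [1,2,1,0],
    [4,6,5],
    [8,1,5,0],
    [4,0,0],
    [0,8,2,1],
    [0,6,6,2],
    [3,5,8],
    [8,1,2],
    [5,6,4],
    [6,2,2],
    [2,4,4],
    [5,8,8,1],
    [4,1,8,1],
    [3,7,7,1],
    [1,2,3,4],
    [4,2,3],
    [6,1,2],
    [7,5,2,3],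
    [7,6,6],
    [6,8,3,6],
    [1,0,0,0],
    [6,1,5,0],
    [2,1,7],
    [3,7,1],
    [0,5,6],
    [4,4,7,5],
    [8,2,5,0],
    [],
    [6,2,5,0],
    [3,5,4],
    [7,0,5,1],
    [8,8,7],
    [7,0,0,1],
    [2,6],
    [8,0,4,1],
    [4,0,6],
    [5,2,3,0],
    [6,3,3,0],
    [1,6,7],
    [0,5,4,4],
    [4,4,0,4],
    [0,8,3,3],
    [6,4,6,0],
    [4,7,4,0],
    [1,4,2],
    [6,8,7],
    [8,2,2],
    [7,8,6,0],
    [3,2,8,0],
    [4,0,4,4],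
    [2,2,2,3],
    [5,3,6,6],
    [7,0,7,4],
    [5,2,7],
    [2,4,8]]

/-- Words for block 1. -/
def blocksAEight1 : List (List Nat) := [
    [2,4,6,3],
    [0,0,1,2],
    [2,4,8],
    [3,5,4],
    [6,8,7],
    [7,0,8,0],
    [7,7,5,2],
    [5,2,7],
    [8,2,2],
    [4,0,6],
    [4,5,7,0],
    [0,7,2,4],
    [6,4,6,0],
    [4,0,0],
    [3,5,8],
    [],
    [5,5,5,3],
    [1,1,1,4,0],
    [1,1,2,1],
    [6,8,3,0],
    [6,1,2],
    [0,5,0],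
    [3,7,1],
    [1,4,2],
    [2,3,0,3],
    [8,4,6,0],
    [7,6,0],
    [5,7,5,1],
    [4,2,3],
    [2,6],
    [0,5,6],
    [7,0,3,5],
    [8,1,2],
    [6,0,4,1],
    [5,2,3,0],
    [8,8,3,0],
    [5,6,4],
    [3,2,7,4],
    [6,3,7],
    [5,0,1,0],
    [7,3,4,3],
    [3,2,1,1],
    [8,3,7],
    [4,6,7,0],
    [1,2,1,6],
    [1,6,3,0],
    [6,2,2],
    [0,8,8,4],
    [3,2,5,1],
    [7,7,2,5],
    [7,6,6],
    [4,5,5],
    [3,3,5,1],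
    [3,3,8,0],
    [1,8,4,3],
    [8,8,7]]

/-- Suborbits at the first point. -/
def blocksAEight : List (List Int × List (List Nat)) := [
  ([2,0,0,2,0,0,0,0,0,0,0,0,0,2,2,0,2,0,0,2,0,2,0,2], blocksAEight0),
  ([1,-1,-1,1,1,1,1,1,1,1,1,1,1,1,-1,1,-1,1,-1,-1,-1,1,1,3], blocksAEight1)]

/-- Words for block 0. -/
def blocksASixteen0 : List (List Nat) := [
    [4,0,6],
    [5,2,3,0],
    [6,8,7],
    [6,2,2],
    [8,2,2],
    [2,6],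
    [3,5,4],
    [5,6,4],
    [4,0,0],
    [2,4,8],
    [5,6,8],
    [2,4,4],
    [7,6,0],
    [3,7,1],
    [5,2,7],
    [0,5,6],
    [4,2,3],
    [0,5,0],
    [8,1,2],
    [6,1,2],
    []]

/-- Words for block 1. -/
def blocksASixteen1 : List (List Nat) := [
    [],
    [0,5,6],
    [3,2,5,1],
    [0,5,0],
    [8,1,2],
    [8,3,7],
    [6,8,7],
    [3,2,1,1],
    [5,6,4],
    [3,5,4],
    [7,8,6,0],
    [5,6,8],
    [3,7,1],
    [2,6],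
    [1,4,2],
    [4,2,3],
    [8,2,2],
    [6,1,2],
    [7,0,8,0],
    [4,0,0],
    [3,3,5,1]]

/-- Words for block 2. -/
def blocksASixteen2 : List (List Nat) := [
    [5,4,4,0],
    [4,7,4,0],
    [1,5,6,0],
    [6,2,5,0],
    [7,6,4,4],
    [1,2,1,0],
    [7,0,0,1],
    [6,1,2],
    [8,8,7],
    [0,1,4,8,0],
    [7,7,3,2],
    [],
    [0,0,1,2],
    [3,3,5,1],
    [6,6,6,0],
    [5,5,8,0,1],
    [4,8,1,0,0],
    [4,6,7,6],
    [8,3,3,0],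
    [3,5,4],
    [7,0,8,0],
    [2,6,2,6],
    [2,5,7,5],
    [1,8,7,5],
    [7,2,2,4],
    [0,1,2,7,0],
    [3,4,6,6,0],
    [7,5,6,7,0],
    [0,6,3,2],
    [8,1,5,0],
    [1,4,2],
    [8,2,2],
    [3,2,7,8],
    [2,4,4],
    [8,1,5,6],
    [8,4,6,0],
    [5,3,6,0],
    [5,7,1,1],
    [1,1,7,2],
    [8,8,3,0],
    [7,0,5,1],
    [0,8,7,2],
    [1,7,5,5],
    [4,6,5],
    [2,5,4,3],
    [7,5,0,0],
    [1,8,0,8],
    [2,8,0,5],
    [1,7,2,3],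
    [5,7,7,4],
    [0,5,0],
    [3,6,4,3],
    [2,5,0,4],
    [2,7,1,2],
    [3,6,0,8],
    [0,6,6,2],
    [4,2,3],
    [3,3,8,0],
    [4,0,6],
    [3,4,3,3,0],
    [3,2,5,1],
    [7,6,0],
    [3,8,7,1,0],
    [0,7,5,3],
    [5,6,6,3],
    [2,4,8],
    [4,5,5],
    [6,4,5,0,0],
    [7,6,6],
    [5,4,8,2],
    [5,0,1,0],
    [3,3,0,1],
    [4,1,8,1],
    [7,5,2,3],
    [5,6,4],
    [2,1,7],
    [1,7,0,0],
    [8,1,2],
    [1,8,5,7],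
    [2,6],
    [0,1,2,5],
    [3,2,8,0],
    [1,4,5,0],
    [7,0,7,8],
    [4,0,0],
    [6,5,0,5],
    [8,2,5,0],
    [6,8,3,0],
    [6,0,4,1],
    [4,8,6,1],
    [4,5,7,0],
    [3,4,1,2],
    [5,2,7],
    [8,3,7],
    [5,6,8],
    [4,6,8,3],
    [4,6,7,0],
    [7,1,7,1,1],
    [0,6,4,8,0],
    [0,1,5,2],
    [5,8,4,1],
    [0,6,1,4],
    [1,6,3,0],
    [4,4,0,4],
    [6,4,6,0],
    [7,7,1,4],
    [0,0,3,7],
    [5,3,6,6],
    [4,8,0,7],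
    [7,7,6,2],
    [1,2,3,4],
    [6,3,7],
    [6,2,2],
    [5,1,2,4],
    [5,0,3,4],
    [7,2,4,5],
    [3,4,2,2],
    [7,7,2,5],
    [7,5,6,5],
    [8,6,6,0]]

/-- Suborbits at the first point. -/
def blocksASixteen : List (List Int × List (List Nat)) := [
  ([0,0,4,0,0,0,0,0,0,0,0,0,0,0,0,0,0,0,0,0,0,0,0,4], blocksASixteen0),
  ([2,2,0,0,0,0,0,0,0,0,0,0,0,2,0,2,0,2,2,2,0,0,0,2], blocksASixteen1),
  ([1,1,-1,-1,1,1,1,1,1,1,1,1,1,1,1,-1,1,-1,1,-1,-1,-1,1,3], blocksASixteen2)]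

/-- Words for block 0. -/
def blocksBEight0 : List (List Nat) := [
    [5,3,0],
    [3,8,3],
    [8,5,5,0],
    [6,5,4,0],
    [5,6,5,0,0],
    [7,1],
    [7,8,3],
    [4,2,2],
    [5,5,8],
    [8,4,1],
    [5,7],
    [2,1,7],
    [6,4,3],
    [4,6,0,0],
    [1,8,8,0],
    []]

/-- Words for block 1. -/
def blocksBEight1 : List (List Nat) := [
    [1,8,0,1],
    [6,4,3],
    [6,0,8],
    [3,8,3],
    [6,3,4],
    [7,1],
    [7,6,4,2],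
    [1,2,1,6],
    [6,5,4,0],
    [],
    [5,7],
    [5,3,0],
    [8,5,5,0],
    [3,2,8,0],
    [6,1,1,0],
    [2,1,7]]

/-- Words for block 2. -/
def blocksBEight2 : List (List Nat) := [
    [2,8,0,5],
    [5,5,8],
    [8,2,3,4,0],
    [6,3,4],
    [8,1,0,7],
    [2,5,8,2,1],
    [7,1],
    [3,0,7,2],
    [2,3,7,4,1],
    [],
    [5,7],
    [4,0,0,5],
    [2,7,1,2],
    [4,5,7,1,4],
    [8,1,0,3,0],
    [3,5,3,2,1],
    [5,6,7,1,1],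
    [1,6,8,4,0],
    [3,4,6,8,0],
    [4,0,6,5],
    [0,1,7,6,0],
    [0,3,6,6,0],
    [1,6,3,6],
    [5,2,5,6],
    [8,5,7,0,0],
    [2,8,6,5],
    [4,3,7,2,3],
    [5,3,0],
    [4,0,5,1,1],
    [4,3,3,3],
    [1,2,1,6],
    [6,6,7,4],
    [2,1,7],
    [2,3,4,8],
    [4,1,8,2],
    [5,4,7,0],
    [8,4,1],
    [5,6,5,0,0],
    [3,4,1,5,0],
    [3,8,3],
    [8,4,2,8,0],
    [8,5,5,0],
    [0,4,4,0,0],
    [4,6,0,0],
    [7,6,4,2],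
    [3,6,4,2],
    [5,6,4,5,0],
    [1,7,4,8,0],
    [6,0,8],
    [7,2,8,0],
    [7,1,5,3,0],
    [5,5,0,0,0],
    [1,8,8,0],
    [1,5,1,8,1],
    [1,8,0,1],
    [8,8,5,1],
    [7,5,3,2,1],
    [7,0,7,2],
    [1,7,6,1,0],
    [5,7,7,1],
    [6,3,7,5,0],
    [6,1,4,8],
    [6,7,1,8,0],
    [6,7,2,4,0],
    [1,8,0,8,3],
    [6,4,3],
    [7,4,6,8,0],
    [6,5,4,0],
    [1,5,4,5,0],
    [2,1,4,7,0],
    [4,8,5,6],
    [1,4,5,5],
    [5,2,3,4,1],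
    [6,7,7,5],
    [4,5,3,5,0],
    [6,1,1,0],
    [3,0,5,2],
    [4,2,2],
    [7,1,5,7],
    [7,8,3]]

/-- Suborbits at the second point. -/
def blocksBEight : List (List Int × List (List Nat)) := [
  ([0,0,4,0,0,0,0,0,0,0,0,0,0,0,0,0,0,0,0,0,0,0,0,4], blocksBEight0),
  ([2,0,0,2,2,0,2,2,0,0,0,0,0,0,2,0,0,0,0,0,0,0,2,2], blocksBEight1),
  ([1,-1,-1,1,1,1,1,1,1,1,1,1,1,1,-1,1,-1,1,-1,-1,-1,1,1,3], blocksBEight2)]

/-- Words for block 0. -/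
def blocksBSixteen0 : List (List Nat) := [
    [3,8,3],
    [8,4,1],
    [5,7],
    [7,1],
    [6,3,4],
    []]

/-- Words for block 1. -/
def blocksBSixteen1 : List (List Nat) := [
    [7,2,8,0],
    [2,7,1,2],
    [6,7,1,8,0],
    [3,7,6,5,0],
    [2,6,7,0,1],
    [8,4,1],
    [0,7,6,1,1],
    [7,8,3],
    [6,8,7,3],
    [8,8,3,5],
    [7,6,4,2],
    [3,8,3],
    [6,5,4,0],
    [3,4,8,7],
    [6,0,8],
    [1,8,8,0],
    [4,3,6,3,0],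
    [1,6,6,7,0],
    [2,1,7],
    [2,7,2,1,0],
    [4,0,6,5],
    [8,7,5,8,0],
    [],
    [0,5,6,3],
    [3,7,4,1,2],
    [6,4,3],
    [3,4,8,3,0],
    [4,0,0,5],
    [4,6,2,8],
    [5,1,0,6,0],
    [7,1,7,1],
    [7,1],
    [2,8,0,5],
    [4,3,3,3],
    [8,2,5,5],
    [1,5,4,5,0],
    [6,1,1,0],
    [6,3,4],
    [6,3,4,7,1],
    [8,5,5,0],
    [1,6,1,6,0],
    [4,2,2],
    [7,4,6,0,1],
    [5,2,5,6],
    [4,4,1,0],
    [5,0,8,1],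
    [1,1,6,7],
    [6,2,8,4],
    [5,7],
    [6,6,7,4],
    [5,7,7,1],
    [5,5,8],
    [4,1,8,2],
    [1,8,0,1],
    [5,7,8,4,1],
    [3,6,4,2],
    [5,3,0],
    [7,0,5,2],
    [6,8,2,5],
    [1,6,7,7,0]]

/-- Words for block 2. -/
def blocksBSixteen2 : List (List Nat) := [
    [8,7,5,0,1],
    [8,6,2,3],
    [6,3,4],
    [7,1],
    [4,0,0,5],
    [4,3,3,3],
    [4,6,2,8],
    [8,5,7,0,0],
    [2,8,7,4,0],
    [8,1,0,3,0],
    [8,4,1],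
    [4,4,0,1,2],
    [5,4,7,0],
    [3,8,3],
    [7,2,5,5,1],
    [0,1,7,6,0],
    [2,4,6,8],
    [5,7],
    [6,7,2,4,0],
    [5,5,8],
    [5,1,0,6,0],
    [2,1,5,8],
    [7,6,4,2],
    [4,3,5,8,1],
    [1,2,8,5],
    [6,1,4,8],
    [5,6,4,5,0],
    [0,4,4,0,0],
    [2,1,4,7,0],
    [6,8,2,5],
    [1,4,3,4,0],
    [1,6,3,6],
    [8,8,4,8,4],
    [0,6,5,6,0],
    [6,0,8],
    [2,6,7,8,0],
    [7,4,0,8,2],
    [5,3,0],
    [1,6,8,4,0],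
    [8,5,6,4,0],
    [3,4,3,5,1],
    [1,6,1,6,0],
    [3,4,1,5,0],
    [3,4,8,7],
    [4,2,2],
    [7,1,5,3,0],
    [1,0,7,4,5],
    [2,7,6,6,0],
    [4,1,8,2],
    [7,4,8,7],
    [2,1,7],
    [0,5,6,3],
    [],
    [1,7,4,0,1],
    [1,5,1,8,1],
    [1,1,2,6],
    [6,2,8,4],
    [7,8,3],
    [8,4,1,7,1],
    [2,7,1,2],
    [8,5,5,0],
    [8,8,5,1],
    [3,8,8,0,1],
    [1,8,0,1],
    [5,3,0,7,1],
    [6,4,3],
    [4,8,0,3,0],
    [1,8,8,0],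
    [3,2,8,0],
    [4,1,4,6],
    [1,1,6,7],
    [0,0,0,0,5],
    [6,6,7,4],
    [1,4,5,5],
    [4,5,3,5,0],
    [3,7,4,1,2],
    [6,7,7,5],
    [3,0,7,2],
    [7,0,7,2],
    [6,6,2,8,1],
    [6,3,7,5,0],
    [4,3,6,3,0],
    [6,6,8,1,0],
    [5,0,8,1],
    [8,2,2,5,0],
    [2,8,5,1,1],
    [8,4,8,3],
    [7,1,5,7],
    [7,5,2,4,2],
    [6,8,7,3],
    [3,0,5,2],
    [7,2,8,0],
    [5,2,5,6],
    [6,5,4,0],
    [4,6,0,0],
    [7,1,7,1]]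

/-- Suborbits at the second point. -/
def blocksBSixteen : List (List Int × List (List Nat)) := [
  ([0,4,0,0,0,0,0,0,0,0,0,0,0,0,0,0,0,0,0,0,0,0,0,4], blocksBSixteen0),
  ([2,0,0,2,0,0,0,0,0,0,0,0,0,2,2,0,2,0,0,2,0,2,0,2], blocksBSixteen1),
  ([1,1,1,-1,-1,1,1,1,1,1,1,1,1,1,1,1,-1,1,-1,1,-1,-1,-1,3], blocksBSixteen2)]

end Cfsg.Agent.McLSimple
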