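import Cfsg.Agent.McLSimple.RankFour
import Cfsg.Agent.McLSimple.OrbitData275

/-!
# The rank three action of degree 275
-/

set_option autoImplicit false

namespace Cfsg.Agent.McLSimple

open Cfsg CfsgLib CfsgLib.Golay MulAction

attribute [local irreducible] CfsgLib.Leech.shortVecs CfsgLib.Leech.halfTable CfsgLib.Leech.quarterTable

/-- The coordinates of the vectors in a block. -/
def blockList (b : List ℤ × List (List ℕ)) : List (List ℤ) := b.2.map (reach b.1)

/-- All 275 coordinate lists. -/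
def pts275 : List (List ℤ) := blocksAll.flatMap blockList

/-- The standard set of 275. -/
def InX (x : GolayPt → ℤ) : Prop :=
  sqNorm x = 32 ∧ dotInt Spor.vecU x = 16 ∧ dotInt Spor.vecV x = -24

/-- The same, as a subset of the lattice. -/
def xSet : Set leechLattice := {x | InX (x : GolayPt → ℤ)}

lemma inX_iff (x : GolayPt → ℤ) :
    InX x ↔ sqNorm x = 32 ∧ x none + x (some 0) = 4 ∧ (∑ p, x p) = 24 - 4 * x none := by
  unfold InX
  rw [show dotInt Spor.vecU x = 4 * (x none + x (some 0)) from Leech.dot_U x, dot_vecV]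
  constructor
  · rintro ⟨h1, h2, h3⟩; exact ⟨h1, by omega, by omega⟩
  · rintro ⟨h1, h2, h3⟩; exact ⟨h1, by omega, by omega⟩

lemma ncard_xSet : xSet.ncard = 275 := by
  rw [show xSet = {x : leechLattice | InX (x : GolayPt → ℤ)} from rfl, Leech.ncard_coe InX]
  have hset : {x : GolayPt → ℤ | x ∈ leechLattice ∧ InX x} =
      ⋃ a ∈ Finset.Icc (0 : ℤ) 4, Leech.PinCount.pinned [none, some 0] [a, 4 - a] [24 - 4 * a] := by
    ext w
    simp only [Leech.PinCount.pinned, inX_iff, Set.mem_ofPred_eq, List.zip_cons_cons, List.zip_nil_right,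
      List.mem_cons, List.not_mem_nil, or_false, forall_eq_or_imp, forall_eq, Set.mem_iUnion, Finset.mem_Icc,
      exists_prop]
    constructor
    · rintro ⟨hw, hn, h0, hs⟩
      have b1 := Leech.PinCount.min_value_le hw hn none
      have b2 := Leech.PinCount.min_value_le hw hn (some 0)
      exact ⟨w none, ⟨by omega, by omega⟩, hw, hn, ⟨rfl, by omega⟩, by omega⟩
    · rintro ⟨a, -, hw, hn, ⟨h1, h2⟩, hs⟩
      exact ⟨hw, hn, by omega, by omega⟩
  have hfin : {w : GolayPt → ℤ | w ∈ leechLattice ∧ sqNorm w = 32}.Finite :=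
    Set.finite_of_ncard_pos (by rw [Leech.ncard_norm_32]; norm_num)
  rw [hset, ← Finset.set_biUnion_coe,
    Set.Finite.ncard_biUnion (Finset.Icc (0 : ℤ) 4).finite_toSet
      (fun a _ => hfin.subset fun w hw => ⟨hw.1, hw.2.1⟩) ?_, finsum_mem_coe_finset]
  · refine (Finset.sum_congr rfl fun a ha => Leech.PinCount.ncard_pinned_pair a (4 - a)
      (decide (a % 2 = 1)) (S := [24 - 4 * a]) (by simp) ?_).trans ?_
    · intro s hs
      rw [Finset.mem_Icc] at ha
      rw [List.mem_singleton] at hs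
      subst hs
      by_cases h : a % 2 = 1 <;> simp only [h, decide_true, decide_false, if_true, if_false,
        Bool.false_eq_true] <;> omega
    · decide +kernel
  · intro a _ b _ hab
    rw [Function.onFun, Set.disjoint_left]
    rintro w ⟨-, -, ha, -⟩ ⟨-, -, hb, -⟩
    exact hab ((ha (none, a) (by simp)).symm.trans (hb (none, b) (by simp)))

lemma toL_injective : Function.Injective toL := fun x y h => funext fun p => by
  have := congrArg (fun l : List ℤ => l.getD (idx p) 0) h
  simpa only [getD_toL _ (idx_lt p), pt_idx] using this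

lemma toL_coe_injective : Function.Injective fun x : leechLattice => toL (x : GolayPt → ℤ) :=
  toL_injective.comp Subtype.val_injective

/-- One permutation for a word. -/
lemma exists_word : ∀ w : List ℕ, (∀ k ∈ w, k < orbGens.length) →
    ∃ g ∈ tripleStab, ∀ y : leechLattice,
      toL ((g • y : leechLattice) : GolayPt → ℤ) = reach (toL (y : GolayPt → ℤ)) w
  | [], _ => ⟨1, one_mem _, fun y => by rw [one_smul]; rfl⟩
  | k :: w, hw => by
    obtain ⟨g, hg, he⟩ := exists_word w fun j hj => hw j (List.mem_cons_of_mem _ hj)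
    have hk : k < orbGens.length := hw k List.mem_cons_self
    have hA : orbGens.getD k [] ∈ orbGens := by
      rw [List.getD_eq_getElem _ _ hk]; exact List.getElem_mem hk
    obtain ⟨σ, hσ⟩ := exists_gen hA
    have hlen := (gens_ok _ hA).1
    refine ⟨Leech.permHom ((σ : M24)⁻¹) * g,
      mul_mem (by rw [map_inv]; exact inv_mem (tripleEquiv σ).2) hg, fun y => ?_⟩
    rw [mul_smul]
    refine List.ext_getElem (by simp [toL, reach, act, -List.getD_eq_getElem?_getD, hlen]) fun i h1 h2 => ?_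
    have hi : i < 24 := by simpa [toL] using h1
    have hlt : (orbGens.getD k []).getD i 0 < 24 := hσ i hi ▸ idx_lt _
    have hlhs : (toL ((Leech.permHom ((σ : M24)⁻¹) • g • y : leechLattice) : GolayPt → ℤ))[i]'h1 =
        ((g • y : leechLattice) : GolayPt → ℤ) (((σ : M24) : Equiv.Perm GolayPt) (pt i)) := by
      simp only [toL, List.getElem_map, List.getElem_range, Leech.permHom_apply, Subgroup.coe_inv, inv_inv]
    have hrhs : (reach (toL (y : GolayPt → ℤ)) (k :: w))[i]'h2 =
        (reach (toL (y : GolayPt → ℤ)) w).getD ((orbGens.getD k []).getD i 0) 0 := by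
      simp only [reach, act, List.getElem_map]
      rw [List.getD_eq_getElem _ _ (show i < (orbGens.getD k []).length by rw [hlen]; exact hi)]
    rw [hlhs, hrhs, ← he, getD_toL _ hlt, ← hσ i hi, pt_idx]

/-- Inner product of coordinate lists. -/
def dotL (a b : List ℤ) : ℤ := (List.zipWith (· * ·) a b).sum

/-- The defining test for the coordinate lists. -/
def testX (l : List ℤ) : Bool :=
  l.length == 24 && decide (Leech.LeechTest (fun p => l.getD (idx p) 0)) &&
    decide (sqNorm (fun p => l.getD (idx p) 0) = 32) &&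
    decide (dotInt Spor.vecU (fun p => l.getD (idx p) 0) = 16) &&
    decide (dotInt Spor.vecV (fun p => l.getD (idx p) 0) = -24)

theorem pts_test : (blocksAll.map Prod.fst ++ [ptA, ptB]).all testX = true := by decide +kernel

theorem pts_checks : (pts275.map enc).Nodup ∧ pts275.length = 275 ∧
    (blocksAll.all fun b => b.2.all fun w => w.all fun k => decide (k < orbGens.length)) = true ∧
    (blocksAll.all fun b => (blockList b).contains b.1) = true := by
  decide +kernel

lemma nodup_pts : pts275.Nodup := by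
  refine List.Nodup.of_map enc ?_
  exact pts_checks.1

lemma exists_pt_of_test {l : List ℤ} (h : testX l = true) :
    ∃ x ∈ xSet, toL (x : GolayPt → ℤ) = l := by
  simp only [testX, Bool.and_eq_true, decide_eq_true_eq, beq_iff_eq] at h
  obtain ⟨⟨⟨⟨hlen, ht⟩, h1⟩, h2⟩, h3⟩ := h
  refine ⟨⟨fun p => l.getD (idx p) 0, Leech.mem_of_test ht⟩, ⟨h1, h2, h3⟩, ?_⟩
  refine List.ext_getElem (by simp [toL, hlen]) fun i a b => ?_
  have hi : i < 24 := by simpa [toL] using a
  simp only [toL, List.getElem_map, List.getElem_range, idx_pt i hi]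
  exact List.getD_eq_getElem _ _ b

lemma inX_smul {g : Co0} (hg : g ∈ mclStab) {x : leechLattice} (hx : x ∈ xSet) : g • x ∈ xSet := by
  obtain ⟨h1, h2, h3⟩ := hx
  refine ⟨(Leech.sqNorm_smul g x).trans h1, ?_, ?_⟩
  · have := Leech.dot_smul' g Spor.leechU x
    rw [show g • Spor.leechU = Spor.leechU from hg.2] at this
    exact this.trans h2
  · have := Leech.dot_smul' g Spor.leechV x
    rw [show g • Spor.leechV = Spor.leechV from hg.1] at this
    exact this.trans h3

lemma finite_xSet : xSet.Finite := Set.finite_of_ncard_pos (by rw [ncard_xSet]; norm_num)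

lemma image_xSet : (fun x : leechLattice => toL (x : GolayPt → ℤ)) '' xSet = {l | l ∈ pts275} := by
  classical
  refine (Set.eq_of_subset_of_ncard_le ?_ ?_ (finite_xSet.image _)).symm
  · intro l hl
    simp only [pts275, Set.mem_ofPred_eq, List.mem_flatMap, blockList, List.mem_map] at hl
    obtain ⟨b, hb, w, hw, rfl⟩ := hl
    obtain ⟨x, hx, hxl⟩ := exists_pt_of_test (l := b.1) (by
      have := List.all_eq_true.mp pts_test
      exact this _ (List.mem_append_left _ (List.mem_map.mpr ⟨b, hb, rfl⟩)))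
    have hk := pts_checks.2.2.1
    simp only [List.all_eq_true, decide_eq_true_eq] at hk
    obtain ⟨g, hg, he⟩ := exists_word w (hk b hb w hw)
    exact ⟨g • x, inX_smul hg.1 hx, by simp only [he, hxl]⟩
  · rw [show {l | l ∈ pts275} = (pts275.toFinset : Set (List ℤ)) from by ext; simp,
      Set.ncard_coe_finset, List.toFinset_card_of_nodup nodup_pts, pts_checks.2.1,
      Set.ncard_image_of_injective _ toL_coe_injective, ncard_xSet]

lemma mem_pts {x : leechLattice} (hx : x ∈ xSet) : toL (x : GolayPt → ℤ) ∈ pts275 :=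
  (image_xSet ▸ Set.mem_image_of_mem _ hx :)

/-- A set closed under the words of the blocks it meets is a union of blocks. -/
lemma union_of_blocks {Bs : List (List ℤ × List (List ℕ))} {O : Set leechLattice} (hfin : O.Finite)
    (hcover : ∀ x ∈ O, ∃ b ∈ Bs, toL (x : GolayPt → ℤ) ∈ blockList b)
    (hclosed : ∀ b ∈ Bs, ∀ l ∈ blockList b, (∃ x ∈ O, toL (x : GolayPt → ℤ) = l) →
      ∀ l' ∈ blockList b, ∃ x ∈ O, toL (x : GolayPt → ℤ) = l')
    (hnd : (Bs.flatMap blockList).Nodup) :
    ∃ T ∈ Bs.sublists, (hfin.toFinset.image fun x : leechLattice => toL (x : GolayPt → ℤ)) =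
      (T.flatMap blockList).toFinset ∧ (T.flatMap blockList).Nodup := by
  classical
  let meets : List ℤ × List (List ℕ) → Bool := fun b =>
    decide (∃ l ∈ blockList b, ∃ x ∈ O, toL (x : GolayPt → ℤ) = l)
  refine ⟨Bs.filter meets, List.mem_sublists.mpr List.filter_sublist, ?_,
    hnd.sublist (List.filter_sublist.flatMap blockList)⟩
  ext l
  simp only [Finset.mem_image, Set.Finite.mem_toFinset, List.mem_toFinset, List.mem_flatMap, List.mem_filter,
    meets, decide_eq_true_eq]
  constructor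
  · rintro ⟨x, hx, rfl⟩
    obtain ⟨b, hb, hlb⟩ := hcover x hx
    exact ⟨b, ⟨hb, _, hlb, x, hx, rfl⟩, hlb⟩
  · rintro ⟨b, ⟨hb, l₀, hl₀, hex⟩, hlb⟩
    exact hclosed b hb l₀ hl₀ hex l hlb

/-- Orbits of a group containing the needed words are closed under blocks. -/
lemma closed_of_words (K : Subgroup Co0) (y : leechLattice) {Bs : List (List ℤ × List (List ℕ))}
    (hw : ∀ b ∈ Bs, ∀ w ∈ b.2, ∃ g ∈ K, ∀ z : leechLattice,
      toL ((g • z : leechLattice) : GolayPt → ℤ) = reach (toL (z : GolayPt → ℤ)) w)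
    (hpt : ∀ b ∈ Bs, ∃ z : leechLattice, toL (z : GolayPt → ℤ) = b.1) :
    ∀ b ∈ Bs, ∀ l ∈ blockList b, (∃ x ∈ orbit K y, toL (x : GolayPt → ℤ) = l) →
      ∀ l' ∈ blockList b, ∃ x ∈ orbit K y, toL (x : GolayPt → ℤ) = l' := by
  rintro b hb l hl ⟨x, hx, rfl⟩ l' hl'
  simp only [blockList, List.mem_map] at hl hl'
  obtain ⟨w, hwm, hwl⟩ := hl
  obtain ⟨w', hwm', rfl⟩ := hl'
  obtain ⟨g, hg, hge⟩ := hw b hb w hwm
  obtain ⟨g', hg', hge'⟩ := hw b hb w' hwm'
  obtain ⟨z, hz⟩ := hpt b hb
  have hgz : g • z = x := toL_coe_injective (by simp only [hge, hz]; exact hwl)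
  refine ⟨g' • z, ?_, by rw [hge', hz]⟩
  obtain ⟨⟨k, hk⟩, rfl⟩ := hx
  refine ⟨⟨g' * g⁻¹ * k, mul_mem (mul_mem hg' (inv_mem hg)) hk⟩, ?_⟩
  show (g' * g⁻¹ * k) • y = g' • z
  rw [mul_smul, mul_smul, show k • y = g • z from hgz.symm, inv_smul_smul]

lemma sum_toL (f : GolayPt → ℤ) : ∑ p, f p = ((List.range 24).map fun i => f (pt i)).sum := by
  have h : (Finset.univ : Finset GolayPt) = ((List.range 24).map pt).toFinset := by decide +kernel
  rw [h, List.sum_toFinset _ (by decide +kernel), List.map_map]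
  rfl

lemma dot_toL (x y : GolayPt → ℤ) : dotInt x y = dotL (toL x) (toL y) := by
  rw [show dotInt x y = ∑ p, x p * y p from rfl, sum_toL]
  simp [dotL, toL, List.zipWith_map, List.zipWith_self]

/-- The coordinatewise sum of the vectors in some blocks. -/
def blockSum (T : List (List ℤ × List (List ℕ))) (p : GolayPt) : ℤ :=
  ((T.flatMap blockList).map fun l => l.getD (idx p) 0).sum

/-- The third coefficient of a sum in the fixed space. -/
def coefU' (T : List (List ℤ × List (List ℕ))) : ℤ :=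
  blockSum T none - blockSum T (some 0) - 4 * blockSum T (pt 1)

theorem sums_check : ∀ T ∈ blocksAll.sublists, T = [] ∨ (T.flatMap blockList).length = 275 ∨
    (coefU' T ≠ 0 ∧ ∀ p, 8 * blockSum T p =
      (blockSum T none + blockSum T (some 0) - 6 * blockSum T (pt 1)) * Spor.vecU p +
      (-8 * blockSum T (pt 1)) * Spor.vecV p + coefU' T * Spor.vecU' p) := by
  decide +kernel

lemma orbit_eq_xSet {y : leechLattice} (hy : y ∈ xSet) : orbit mclStab y = xSet := by
  classical
  have hsub : orbit mclStab y ⊆ xSet := by rintro _ ⟨g, rfl⟩; exact inX_smul g.2 hy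
  have hfin := finite_xSet.subset hsub
  have hall := pts_checks.2.2.1
  simp only [List.all_eq_true, decide_eq_true_eq] at hall
  obtain ⟨T, hT, him, hnd⟩ := union_of_blocks (Bs := blocksAll) hfin
    (fun x hx => List.mem_flatMap.mp (mem_pts (hsub hx)))
    (closed_of_words mclStab y (fun b hb w hw => by
        obtain ⟨g, hg, he⟩ := exists_word w (hall b hb w hw)
        exact ⟨g, hg.1, he⟩)
      (fun b hb => by
        obtain ⟨z, -, hz⟩ := exists_pt_of_test (List.all_eq_true.mp pts_test b.1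
          (List.mem_append_left _ (List.mem_map.mpr ⟨b, hb, rfl⟩)))
        exact ⟨z, hz⟩))
    nodup_pts
  have hcard : hfin.toFinset.card = (T.flatMap blockList).length := by
    rw [← List.toFinset_card_of_nodup hnd, ← him, Finset.card_image_of_injective _ toL_coe_injective]
  rcases sums_check T hT with rfl | h | ⟨hc, hp⟩
  · have : y ∈ hfin.toFinset := hfin.mem_toFinset.mpr (mem_orbit_self y)
    simp [Finset.card_eq_zero.mp hcard] at this
  · refine Set.eq_of_subset_of_ncard_le hsub ?_ finite_xSet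
    rw [ncard_xSet, Set.ncard_eq_toFinset_card _ hfin, hcard, h]
  exfalso
  set s : leechLattice := ∑ x ∈ hfin.toFinset, x with hs
  have hsp : ∀ p, (s : GolayPt → ℤ) p = blockSum T p := fun p => by
    rw [blockSum, ← List.sum_toFinset _ hnd, ← him, Finset.sum_image toL_coe_injective.injOn, hs,
      AddSubgroup.val_finset_sum, Finset.sum_apply]
    exact Finset.sum_congr rfl fun x _ => by rw [getD_toL _ (idx_lt p), pt_idx]
  set a := blockSum T none + blockSum T (some 0) - 6 * blockSum T (pt 1)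
  set b := -8 * blockSum T (pt 1)
  have he : (8 : ℤ) • s = a • Spor.leechU + b • Spor.leechV + coefU' T • Spor.leechU' := by
    refine Subtype.ext (funext fun p => ?_)
    show 8 * (s : GolayPt → ℤ) p = a * Spor.vecU p + b * Spor.vecV p + coefU' T * Spor.vecU' p
    rw [hsp]
    exact hp p
  have hfix : ∀ g ∈ mclStab, g • Spor.leechU' = Spor.leechU' := by
    intro g hg
    have hgs : g • s = s := by
      rw [hs, Leech.smul_sum']
      refine Finset.sum_bij (fun x _ => g • x) (fun x hx => ?_) (fun _ _ _ _ e => MulAction.injective g e)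
        (fun x hx => ⟨g⁻¹ • x, ?_, smul_inv_smul _ _⟩) (fun _ _ => rfl)
      · rw [Set.Finite.mem_toFinset] at hx ⊢
        obtain ⟨k, rfl⟩ := hx
        exact ⟨⟨g, hg⟩ * k, mul_smul _ _ _⟩
      · rw [Set.Finite.mem_toFinset] at hx ⊢
        obtain ⟨k, rfl⟩ := hx
        exact ⟨⟨g, hg⟩⁻¹ * k, mul_smul _ _ _⟩
    have h := congrArg (g • ·) he
    simp only [Leech.smul_zsmul', Leech.smul_add', hgs, show g • Spor.leechU = Spor.leechU from hg.2,
      show g • Spor.leechV = Spor.leechV from hg.1] at h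
    rw [he] at h
    have h2 := congrArg Subtype.val (add_left_cancel h)
    refine Subtype.ext (funext fun p => ?_)
    have h3 := congrFun h2 p
    simp only [AddSubgroup.coe_zsmul, Pi.smul_apply, smul_eq_mul] at h3
    exact (Int.eq_of_mul_eq_mul_left hc h3).symm
  have h1 : zSet ⊆ {Spor.leechU'} := by
    rw [← orbit_eq_zSet]
    rintro _ ⟨g, rfl⟩
    exact hfix g g.2
  have h2 := Set.ncard_le_ncard h1
  rw [ncard_zSet, Set.ncard_singleton] at h2
  omega

/-- The checks at a base point: words fix it, and the blocks cover the class. -/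
def subCheck (x : List ℤ) (d : ℤ) (Bs : List (List ℤ × List (List ℕ))) : Bool :=
  (Bs.all fun b => testX b.1 && b.2.all fun w => (w.all fun k => decide (k < orbGens.length)) &&
      (reach x w == x)) &&
    decide (((Bs.flatMap blockList).map enc).Nodup) &&
    ((Bs.flatMap blockList).length == (pts275.filter fun l => dotL x l == d && l != x).length) &&
    ((Bs.flatMap blockList).all fun l => dotL x l == d && l != x)

theorem sub_check_a_eight : subCheck ptA 8 blocksAEight = true := by decide +kernel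

theorem sub_check_a_sixteen : subCheck ptA 16 blocksASixteen = true := by decide +kernel

theorem sub_check_b_eight : subCheck ptB 8 blocksBEight = true := by decide +kernel

theorem sub_check_b_sixteen : subCheck ptB 16 blocksBSixteen = true := by decide +kernel

/-- The possible orbit sizes inside a class. -/
def sizes (Bs : List (List ℤ × List (List ℕ))) : List ℕ :=
  (Bs.sublists.map fun T => (T.flatMap blockList).length).filter fun n => n != 0

theorem sizes_check : (∀ n ∈ sizes blocksAEight, n ∈ sizes blocksBEight → n = 112) ∧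
    (∀ n ∈ sizes blocksASixteen, n ∈ sizes blocksBSixteen → n = 162) ∧
    (pts275.filter fun l => dotL ptA l == 8 && l != ptA).length = 112 ∧
    (pts275.filter fun l => dotL ptA l == 16 && l != ptA).length = 162 := by
  decide +kernel

/-- The class of a point at inner product `d`. -/
def cls275 (x : leechLattice) (d : ℤ) : Set leechLattice :=
  {y | y ∈ xSet ∧ y ≠ x ∧ dotInt (x : GolayPt → ℤ) (y : GolayPt → ℤ) = d}

lemma ncard_cls {x : leechLattice} (d : ℤ) :
    (cls275 x d).ncard = (pts275.filter fun l => dotL (toL x) l == d && l != toL x).length := by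
  classical
  rw [← List.toFinset_card_of_nodup (nodup_pts.filter _), ← Set.ncard_image_of_injective _ toL_coe_injective,
    ← Set.ncard_coe_finset]
  congr 1
  ext l
  simp only [Set.mem_image, cls275, Set.mem_ofPred_eq, List.coe_toFinset, List.mem_filter, Bool.and_eq_true,
    beq_iff_eq, bne_iff_ne]
  constructor
  · rintro ⟨y, ⟨hy, hne, hd⟩, rfl⟩
    exact ⟨mem_pts hy, by rw [← dot_toL, hd], fun e => hne (toL_coe_injective e)⟩
  · rintro ⟨hl, hd, hne⟩
    obtain ⟨y, hy, rfl⟩ : l ∈ (fun x : leechLattice => toL (x : GolayPt → ℤ)) '' xSet := image_xSet ▸ hl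
    exact ⟨y, ⟨hy, fun e => hne (by rw [e]), by rw [dot_toL]; exact hd⟩, rfl⟩

/-- Orbit sizes at a base point. -/
lemma size_mem {x : leechLattice} {l : List ℤ} {d : ℤ} {Bs : List (List ℤ × List (List ℕ))}
    (hl : toL (x : GolayPt → ℤ) = l) (hc : subCheck l d Bs = true) {y : leechLattice}
    (hy : y ∈ cls275 x d) :
    (orbit ↥(mclStab ⊓ stabilizer Co0 x) y).ncard ∈ sizes Bs := by
  classical
  subst hl
  simp only [subCheck, Bool.and_eq_true, List.all_eq_true, decide_eq_true_eq, beq_iff_eq, bne_iff_ne] at hc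
  obtain ⟨⟨⟨hw, hincr⟩, hlen⟩, hcls⟩ := hc
  have hnd : (Bs.flatMap blockList).Nodup :=
    List.Nodup.of_map enc hincr
  have himgcls : (fun z : leechLattice => toL (z : GolayPt → ℤ)) '' cls275 x d =
      ((Bs.flatMap blockList).toFinset : Set (List ℤ)) := by
    refine (Set.eq_of_subset_of_ncard_le ?_ ?_ ((finite_xSet.subset fun z hz => hz.1).image _)).symm
    · intro l hl
      rw [List.coe_toFinset, Set.mem_ofPred_eq] at hl
      obtain ⟨hd, hne⟩ := hcls l hl
      obtain ⟨b, hb, hlb⟩ := List.mem_flatMap.mp hl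
      simp only [blockList, List.mem_map] at hlb
      obtain ⟨w, hwb, rfl⟩ := hlb
      obtain ⟨z, hz, hzl⟩ := exists_pt_of_test (hw b hb).1
      obtain ⟨g, hg, he⟩ := exists_word w ((hw b hb).2 w hwb).1
      have hval : toL ((g • z : leechLattice) : GolayPt → ℤ) = reach b.1 w := by rw [he, hzl]
      exact ⟨g • z, ⟨inX_smul hg.1 hz, fun e => hne (by rw [← hval, e]), by rw [dot_toL, hval]; exact hd⟩, hval⟩
    · rw [Set.ncard_image_of_injective _ toL_coe_injective, ncard_cls, Set.ncard_coe_finset,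
        List.toFinset_card_of_nodup hnd, hlen]
  set K := mclStab ⊓ stabilizer Co0 x with hK
  have hsub : orbit K y ⊆ cls275 x d := by
    rintro _ ⟨⟨g, hg⟩, rfl⟩
    have hgx : g • x = x := hg.2
    refine ⟨inX_smul hg.1 hy.1, fun e => hy.2.1 (MulAction.injective g (e.trans hgx.symm)), ?_⟩
    have := Leech.dot_smul' g x y
    rw [hgx] at this
    exact this.trans hy.2.2
  have hfin : (orbit K y).Finite := finite_xSet.subset fun z hz => (hsub hz).1
  obtain ⟨T, hT, him, hndT⟩ := union_of_blocks (Bs := Bs) hfin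
    (fun z hz => List.mem_flatMap.mp (List.mem_toFinset.mp
      (show toL (z : GolayPt → ℤ) ∈ ((Bs.flatMap blockList).toFinset : Set (List ℤ)) from
        himgcls ▸ Set.mem_image_of_mem _ (hsub hz))))
    (closed_of_words K y (fun b hb w hwb => by
        obtain ⟨hk, hfx⟩ := (hw b hb).2 w hwb
        obtain ⟨g, hg, he⟩ := exists_word w hk
        exact ⟨g, ⟨hg.1, toL_coe_injective ((he x).trans hfx)⟩, he⟩)
      (fun b hb => by
        obtain ⟨z, -, hz⟩ := exists_pt_of_test (hw b hb).1
        exact ⟨z, hz⟩))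
    hnd
  have hcard : (orbit K y).ncard = (T.flatMap blockList).length := by
    rw [Set.ncard_eq_toFinset_card _ hfin, ← List.toFinset_card_of_nodup hndT, ← him,
      Finset.card_image_of_injective _ toL_coe_injective]
  refine List.mem_filter.mpr ⟨List.mem_map.mpr ⟨T, hT, hcard.symm⟩, ?_⟩
  have h0 : (orbit K y).ncard ≠ 0 := fun h => by
    rw [Set.ncard_eq_zero hfin] at h
    exact (h ▸ mem_orbit_self y : y ∈ (∅ : Set leechLattice))
  simpa using h0

/-- The point stabiliser is transitive on each of the two classes. -/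
theorem suborbits {x : leechLattice} (hx : x ∈ xSet) :
    (cls275 x 8).ncard = 112 ∧ (cls275 x 16).ncard = 162 ∧
    (∀ y ∈ xSet, y ≠ x → dotInt (x : GolayPt → ℤ) (y : GolayPt → ℤ) = 8 ∨
      dotInt (x : GolayPt → ℤ) (y : GolayPt → ℤ) = 16) ∧
    ∀ d, (d = 8 ∨ d = 16) → ∀ y ∈ cls275 x d, orbit ↥(mclStab ⊓ stabilizer Co0 x) y = cls275 x d := by
  have test := List.all_eq_true.mp pts_test
  obtain ⟨A, hA, hAl⟩ := exists_pt_of_test (test ptA (by simp))
  obtain ⟨B, hB, hBl⟩ := exists_pt_of_test (test ptB (by simp))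
  have tr : ∀ {p q : leechLattice}, p ∈ xSet → q ∈ xSet → ∃ g ∈ mclStab, g • p = q := fun hp hq => by
    have : _ ∈ orbit mclStab _ := (orbit_eq_xSet hp).symm ▸ hq
    obtain ⟨g, rfl⟩ := this
    exact ⟨g.1, g.2, rfl⟩
  have shift : ∀ {p q : leechLattice} {g : Co0}, g ∈ mclStab → g • p = q → ∀ (d : ℤ) {z : leechLattice},
      (g • z ∈ cls275 q d ↔ z ∈ cls275 p d) ∧
      (g • ·) '' orbit ↥(mclStab ⊓ stabilizer Co0 p) z = orbit ↥(mclStab ⊓ stabilizer Co0 q) (g • z) := by
    intro p q g hg hgp d z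
    subst hgp
    refine ⟨?_, Set.ext fun t => ⟨?_, ?_⟩⟩
    · simp only [cls275, Set.mem_ofPred_eq, Leech.dot_smul', ne_eq, smul_left_cancel_iff]
      exact and_congr_left fun _ => ⟨fun h => by simpa using inX_smul (inv_mem hg) h, inX_smul hg⟩
    · rintro ⟨_, ⟨⟨k, hk⟩, rfl⟩, rfl⟩
      refine ⟨⟨g * k * g⁻¹, Subgroup.mem_inf.mpr ⟨mul_mem (mul_mem hg (Subgroup.mem_inf.mp hk).1) (inv_mem hg), ?_⟩⟩, ?_⟩
      · show (g * k * g⁻¹) • g • p = g • p
        rw [mul_smul, mul_smul, inv_smul_smul, show k • p = p from hk.2]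
      · show (g * k * g⁻¹) • g • z = g • k • z
        rw [mul_smul, mul_smul, inv_smul_smul]
    · rintro ⟨⟨k, hk⟩, rfl⟩
      refine ⟨(g⁻¹ * k * g) • z, ⟨⟨g⁻¹ * k * g, Subgroup.mem_inf.mpr ⟨mul_mem (mul_mem (inv_mem hg) (Subgroup.mem_inf.mp hk).1) hg, ?_⟩⟩, rfl⟩, ?_⟩
      · show (g⁻¹ * k * g) • p = p
        rw [mul_smul, mul_smul, show k • g • p = g • p from hk.2, inv_smul_smul]
      · show g • (g⁻¹ * k * g) • z = k • g • z
        rw [mul_smul, mul_smul, smul_inv_smul]
  obtain ⟨gA, hgA, hgAx⟩ := tr hx hA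
  have hcl : ∀ d, (cls275 x d).ncard = (cls275 A d).ncard := fun d => by
    rw [← Set.ncard_image_of_injective (cls275 x d) (MulAction.injective gA)]
    congr 1
    ext t
    constructor
    · rintro ⟨z, hz, rfl⟩; exact (shift hgA hgAx d).1.mpr hz
    · intro ht
      exact ⟨gA⁻¹ • t, (shift hgA hgAx d).1.mp (by rwa [smul_inv_smul]), smul_inv_smul _ _⟩
  have h8 : (cls275 x 8).ncard = 112 := by rw [hcl, ncard_cls, hAl]; exact sizes_check.2.2.1
  have h16 : (cls275 x 16).ncard = 162 := by rw [hcl, ncard_cls, hAl]; exact sizes_check.2.2.2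
  refine ⟨h8, h16, fun y hy hne => ?_, ?_⟩
  · have hu : cls275 x 8 ∪ cls275 x 16 = xSet \ {x} := by
      refine Set.eq_of_subset_of_ncard_le ?_ ?_ (finite_xSet.sdiff)
      · rintro z (hz | hz) <;> exact ⟨hz.1, hz.2.1⟩
      · rw [Set.ncard_sdiff_singleton_of_mem hx, ncard_xSet, Set.ncard_union_eq ?_
          (finite_xSet.subset fun z hz => hz.1) (finite_xSet.subset fun z hz => hz.1), h8, h16]
        rw [Set.disjoint_left]
        intro z hz hz'
        have := hz.2.2.symm.trans hz'.2.2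
        norm_num at this
    rcases (hu.symm ▸ ⟨hy, hne⟩ : y ∈ cls275 x 8 ∪ cls275 x 16) with h | h
    exacts [Or.inl h.2.2, Or.inr h.2.2]
  · intro d hd y hy
    obtain ⟨gB, hgB, hgBx⟩ := tr hx hB
    have hsize : ∀ {p : leechLattice} {g : Co0}, g ∈ mclStab → g • x = p →
        (orbit ↥(mclStab ⊓ stabilizer Co0 p) (g • y)).ncard = (orbit ↥(mclStab ⊓ stabilizer Co0 x) y).ncard :=
      fun hg hgx => by rw [← (shift hg hgx d).2, Set.ncard_image_of_injective _ (MulAction.injective _)]
    have hsub : orbit ↥(mclStab ⊓ stabilizer Co0 x) y ⊆ cls275 x d := by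
      rintro _ ⟨⟨g, hg⟩, rfl⟩
      exact ((shift hg.1 (show g • x = x from hg.2) d).1).mpr hy
    refine Set.eq_of_subset_of_ncard_le hsub ?_ (finite_xSet.subset fun z hz => hz.1)
    have c1 := sub_check_a_eight
    have c2 := sub_check_a_sixteen
    have c3 := sub_check_b_eight
    have c4 := sub_check_b_sixteen
    rcases hd with rfl | rfl
    · have := sizes_check.1 _ (hsize hgA hgAx ▸ size_mem hAl c1 ((shift hgA hgAx _).1.mpr hy))
        (hsize hgB hgBx ▸ size_mem hBl c3 ((shift hgB hgBx _).1.mpr hy))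
      rw [h8, this]
    · have := sizes_check.2.1 _ (hsize hgA hgAx ▸ size_mem hAl c2 ((shift hgA hgAx _).1.mpr hy))
        (hsize hgB hgBx ▸ size_mem hBl c4 ((shift hgB hgBx _).1.mpr hy))
      rw [h16, this]

/-- The configuration of the statements. -/
def Conf275 (u v x : leechLattice) : Prop :=
  sqNorm (x : GolayPt → ℤ) = 32 ∧ sqNorm ((u - x : leechLattice) : GolayPt → ℤ) = 32 ∧
    dotInt (v : GolayPt → ℤ) (x : GolayPt → ℤ) = 16

lemma sqNorm_sub' (a b : GolayPt → ℤ) : sqNorm (a - b) = sqNorm a + sqNorm b - 2 * dotInt a b := by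
  simp only [sqNorm, dotInt, Pi.sub_apply, Finset.mul_sum, ← Finset.sum_add_distrib, ← Finset.sum_sub_distrib]
  exact Finset.sum_congr rfl fun p _ => by ring

/-- Any configuration is equivalent to the standard one. -/
theorem exists_std275 {u v : leechLattice} (hu : sqNorm (u : GolayPt → ℤ) = 48)
    (hv : sqNorm (v : GolayPt → ℤ) = 32 ∧ sqNorm ((u - v : leechLattice) : GolayPt → ℤ) = 32) :
    ∃ g : Co0, (∀ k, k ∈ mclStab ↔ (g⁻¹ * k * g) • u = u ∧ (g⁻¹ * k * g) • v = v) ∧
      ∀ x, Conf275 u v x ↔ g • x ∈ xSet := by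
  have hd : dotInt (v : GolayPt → ℤ) ((u - v : leechLattice) : GolayPt → ℤ) = -8 := by
    have h := Leech.sqNorm_add (v : GolayPt → ℤ) ((u - v : leechLattice) : GolayPt → ℤ)
    rw [← AddSubgroup.coe_add, add_sub_cancel, hu, hv.1, hv.2] at h
    omega
  obtain ⟨g, hgv, hgw⟩ := exists_to_standard hv.1 hv.2 hd
  have hgu : g • u = -Spor.leechV := by
    have := hgw
    rw [Leech.smul_sub', hgv] at this
    rw [← sub_add_cancel (g • u) Spor.leechU, this]
    abel
  refine ⟨g, fun k => ?_, fun x => ?_⟩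
  · simp only [mclStab, Subgroup.mem_inf, mem_stabilizer_iff]
    refine and_congr ?_ ?_
    · rw [mul_smul, mul_smul, inv_smul_eq_iff, hgu, Leech.smul_neg', neg_inj]
    · rw [mul_smul, mul_smul, inv_smul_eq_iff, hgv]
  · have e1 : dotInt Spor.vecU ((g • x : leechLattice) : GolayPt → ℤ) =
        dotInt (v : GolayPt → ℤ) (x : GolayPt → ℤ) := by
      have h := Leech.dot_smul' g v x
      rw [hgv] at h
      exact h
    have e2 : dotInt Spor.vecV ((g • x : leechLattice) : GolayPt → ℤ) =
        -dotInt (u : GolayPt → ℤ) (x : GolayPt → ℤ) := by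
      have h := Leech.dot_smul' g u x
      rw [hgu] at h
      rw [← h]
      show _ = -dotInt (-Spor.vecV) _
      simp [dotInt, Finset.sum_neg_distrib]
    simp only [Conf275, xSet, InX, Set.mem_ofPred_eq, e1, e2, Leech.sqNorm_smul, AddSubgroup.coe_sub, sqNorm_sub', hu]
    constructor
    · rintro ⟨h1, h2, h3⟩; exact ⟨h1, h3, by omega⟩
    · rintro ⟨h1, h2, h3⟩; exact ⟨h1, by omega, h2⟩

theorem transitive_275 {u v : leechLattice} (hu : sqNorm (u : GolayPt → ℤ) = 48)
    (hv : sqNorm (v : GolayPt → ℤ) = 32 ∧ sqNorm ((u - v : leechLattice) : GolayPt → ℤ) = 32) :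
    {x | Conf275 u v x}.ncard = 275 ∧
    ∀ x ∈ {x | Conf275 u v x}, ∀ x' ∈ {x | Conf275 u v x}, ∃ g : Co0, g • u = u ∧ g • v = v ∧ g • x = x' := by
  obtain ⟨g, hk, hx⟩ := exists_std275 hu hv
  refine ⟨?_, fun x hxm x' hxm' => ?_⟩
  · rw [show {x | Conf275 u v x} = (g⁻¹ • ·) '' xSet from Set.ext fun x => ?_,
      Set.ncard_image_of_injective _ (MulAction.injective _), ncard_xSet]
    exact ⟨fun h => ⟨g • x, (hx x).mp h, inv_smul_smul _ _⟩,
      fun ⟨y, hy, e⟩ => (hx x).mpr (by rw [← e, smul_inv_smul]; exact hy)⟩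
  · obtain ⟨k, hk'⟩ : g • x' ∈ orbit mclStab (g • x) := (orbit_eq_xSet ((hx x).mp hxm)).symm ▸ (hx x').mp hxm'
    obtain ⟨h1, h2⟩ := (hk k).mp k.2
    refine ⟨g⁻¹ * k * g, h1, h2, ?_⟩
    rw [mul_smul, mul_smul, show (k : Co0) • g • x = g • x' from hk', inv_smul_smul]

theorem rank_three_275 {u v x : leechLattice} (hu : sqNorm (u : GolayPt → ℤ) = 48)
    (hv : sqNorm (v : GolayPt → ℤ) = 32 ∧ sqNorm ((u - v : leechLattice) : GolayPt → ℤ) = 32)
    (hxm : Conf275 u v x) :
    {y | Conf275 u v y ∧ dotInt (x : GolayPt → ℤ) (y : GolayPt → ℤ) = 8}.ncard = 112 ∧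
    {y | Conf275 u v y ∧ y ≠ x ∧ dotInt (x : GolayPt → ℤ) (y : GolayPt → ℤ) = 16}.ncard = 162 ∧
    ∀ y, Conf275 u v y → ∀ y', Conf275 u v y' → y ≠ x → y' ≠ x →
      dotInt (x : GolayPt → ℤ) (y : GolayPt → ℤ) = dotInt (x : GolayPt → ℤ) (y' : GolayPt → ℤ) →
      ∃ g : Co0, g • u = u ∧ g • v = v ∧ g • x = x ∧ g • y = y' := by
  obtain ⟨g, hk, hx⟩ := exists_std275 hu hv
  obtain ⟨h8, h16, hcases, horb⟩ := suborbits ((hx x).mp hxm)
  have hmem : ∀ d y, (Conf275 u v y ∧ y ≠ x ∧ dotInt (x : GolayPt → ℤ) (y : GolayPt → ℤ) = d) ↔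
      g • y ∈ cls275 (g • x) d := fun d y => by
    simp only [cls275, Set.mem_ofPred_eq, ← hx, Leech.dot_smul', ne_eq, smul_left_cancel_iff]
  have himg : ∀ d, {y | Conf275 u v y ∧ y ≠ x ∧ dotInt (x : GolayPt → ℤ) (y : GolayPt → ℤ) = d}.ncard =
      (cls275 (g • x) d).ncard := fun d => by
    rw [← Set.ncard_image_of_injective _ (MulAction.injective g)]
    congr 1
    ext t
    constructor
    · rintro ⟨y, hy, rfl⟩; exact (hmem d y).mp hy
    · intro ht
      exact ⟨g⁻¹ • t, (hmem d _).mpr (by rwa [smul_inv_smul]), smul_inv_smul _ _⟩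
  refine ⟨?_, by rw [himg, h16], ?_⟩
  · rw [← h8, ← himg]
    congr 1
    ext y
    simp only [Set.mem_ofPred_eq]
    constructor
    · rintro ⟨hy, hd⟩
      refine ⟨hy, ?_, hd⟩
      rintro rfl
      have h1 := hxm.1
      have h2 : dotInt (y : GolayPt → ℤ) (y : GolayPt → ℤ) = sqNorm (y : GolayPt → ℤ) := by
        simp [dotInt, sqNorm, sq]
      omega
    · rintro ⟨hy, -, hd⟩; exact ⟨hy, hd⟩
  · intro y hy y' hy' hne hne' heq
    set d := dotInt (x : GolayPt → ℤ) (y : GolayPt → ℤ) with hd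
    have h1 : g • y ∈ cls275 (g • x) d := (hmem d y).mp ⟨hy, hne, rfl⟩
    have h2 : g • y' ∈ cls275 (g • x) d := (hmem d y').mp ⟨hy', hne', heq.symm⟩
    have hd' : d = 8 ∨ d = 16 := by
      have := hcases (g • y) h1.1 h1.2.1
      rwa [h1.2.2] at this
    obtain ⟨⟨k, hkm⟩, hky⟩ : g • y' ∈ orbit ↥(mclStab ⊓ stabilizer Co0 (g • x)) (g • y) :=
      (horb d hd' _ h1).symm ▸ h2
    obtain ⟨a1, a2⟩ := (hk k).mp hkm.1
    refine ⟨g⁻¹ * k * g, a1, a2, ?_, ?_⟩
    · rw [mul_smul, mul_smul, show k • g • x = g • x from hkm.2, inv_smul_smul]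
    · rw [mul_smul, mul_smul, show k • g • y = g • y' from hky, inv_smul_smul]

end Cfsg.Agent.McLSimple
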