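import Mathlib

/-!
# A simplicity criterion for transitive groups of degree 2025
-/

set_option autoImplicit false

namespace Cfsg.Agent.McLSimple

open MulAction
open scoped Pointwise

lemma card_mod_of_perm {Y : Type*} [Finite Y] (p : ℕ) [Fact p.Prime] (σ : Equiv.Perm Y) (h : σ ^ p = 1) :
    Nat.card (Function.fixedPoints σ) ≡ Nat.card Y [MOD p] := by
  classical
  haveI := Fintype.ofFinite Y
  let fE : Function.End Y := ⇑σ
  have hf : fE ^ p ^ 1 = 1 := by
    rw [pow_one]
    funext y
    have hpw : ∀ k : ℕ, (fE ^ k) y = (σ ^ k) y := by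
      intro k
      induction k with
      | zero => rfl
      | succ k ih => rw [pow_succ', pow_succ']; exact congrArg σ ih
    rw [hpw, h]; rfl
  rw [Nat.card_eq_fintype_card, Nat.card_eq_fintype_card]
  convert! (Equiv.Perm.card_fixedPoints_modEq (p := p) (n := 1) hf).symm

theorem isSimpleGroup_2025 {G X : Type*} [Group G] [Finite G] [MulAction G X] [IsPretransitive G X]
    (z : X) (hX : Nat.card X = 2025) [IsSimpleGroup (stabilizer G z)]
    {t s : G} (ht : orderOf t = 11) (hs : orderOf s = 7) (htz : t • z = z) (hsz : s • z = z)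
    (htfix : ∀ x : X, t • x = x → x = z) (hsfix : ∃ z' : X, ∀ x : X, s • x = x → x = z ∨ x = z') :
    IsSimpleGroup G := by
  haveI : Finite X := Nat.finite_of_card_ne_zero (by omega)
  haveI : Fact (Nat.Prime 11) := ⟨by norm_num⟩
  haveI : Fact (Nat.Prime 7) := ⟨by norm_num⟩
  haveI : Fact (Nat.Prime 5) := ⟨by norm_num⟩
  haveI : Nontrivial G := ⟨t, 1, fun e => by rw [e, orderOf_one] at ht; norm_num at ht⟩
  -- normal subgroups are transitive
  have htrans : ∀ N : Subgroup G, N.Normal → N ≠ ⊥ → ∀ x : X, ∃ n ∈ N, n • z = x := by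
    intro N hN hNb
    set O : Set X := orbit N z with hO
    have hblock : IsBlock G O := IsBlock.orbit_of_normal z
    have hdvd := hblock.ncard_dvd_card ⟨z, mem_orbit_self z⟩
    rw [hX] at hdvd
    have hinv : ∀ g : G, g • z = z → ∀ x ∈ O, g • x ∈ O := by
      intro g hg x hx
      obtain ⟨⟨n, hn⟩, rfl⟩ := hx
      refine ⟨⟨g * n * g⁻¹, hN.conj_mem n hn g⟩, ?_⟩
      show (g * n * g⁻¹) • z = g • n • z
      rw [mul_smul, mul_smul, show g⁻¹ • z = z by rw [inv_smul_eq_iff, hg]]
    have hmod : ∀ (p : ℕ) [Fact p.Prime] (g : G), orderOf g = p → g • z = z →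
        ∃ F : Set O, Nat.card F ≡ O.ncard [MOD p] ∧ (⟨z, mem_orbit_self z⟩ : O) ∈ F ∧
          ∀ x ∈ F, g • (x : X) = x := by
      intro p _ g hg hgz
      let σ : Equiv.Perm O :=
        { toFun := fun x => ⟨g • x.1, hinv g hgz x.1 x.2⟩
          invFun := fun x => ⟨g⁻¹ • x.1, hinv g⁻¹ (by rw [inv_smul_eq_iff, hgz]) x.1 x.2⟩
          left_inv := fun x => Subtype.ext (inv_smul_smul _ _)
          right_inv := fun x => Subtype.ext (smul_inv_smul _ _) }
      have hpow : ∀ (k : ℕ) (x : O), ((σ ^ k) x : X) = g ^ k • (x : X) := by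
        intro k
        induction k with
        | zero => intro x; simp
        | succ k ih =>
          intro x
          rw [pow_succ, Equiv.Perm.mul_apply, ih, pow_succ, mul_smul]
          rfl
      have hσ : σ ^ p = 1 := Equiv.ext fun x => Subtype.ext (by
        rw [hpow, ← hg, pow_orderOf_eq_one, one_smul]; rfl)
      refine ⟨Function.fixedPoints σ, ?_, Subtype.ext hgz, fun x hx => congrArg Subtype.val hx⟩
      have := card_mod_of_perm p σ hσ
      rwa [Nat.card_coe_set_eq O] at this
    obtain ⟨F, hF, hzF, hFfix⟩ := hmod 11 t ht htz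
    have hF1 : Nat.card F = 1 := by
      have : F = {⟨z, mem_orbit_self z⟩} := Set.eq_singleton_iff_unique_mem.mpr
        ⟨hzF, fun x hx => Subtype.ext (htfix _ (hFfix x hx))⟩
      rw [this]; simp
    obtain ⟨F', hF', hzF', hF'fix⟩ := hmod 7 s hs hsz
    obtain ⟨z', hz'⟩ := hsfix
    have hF2 : Nat.card F' = 1 ∨ Nat.card F' = 2 := by
      have h2 : (Subtype.val '' F').ncard ≤ ({z, z'} : Set X).ncard :=
        Set.ncard_le_ncard (by rintro _ ⟨x, hx, rfl⟩; exact hz' _ (hF'fix x hx)) (Set.toFinite _)
      rw [Set.ncard_image_of_injective _ Subtype.val_injective, ← Nat.card_coe_set_eq] at h2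
      have h3 : ({z, z'} : Set X).ncard ≤ 2 := (Set.ncard_insert_le _ _).trans (by simp)
      have h4 : 0 < Nat.card F' := Nat.card_pos_iff.mpr ⟨⟨⟨_, hzF'⟩⟩, Subtype.finite⟩
      omega
    have hd : O.ncard = 1 ∨ O.ncard = 2025 := by
      have key : ∀ d ∈ Nat.divisors 2025, d % 11 = 1 → (d % 7 = 1 ∨ d % 7 = 2) → d = 1 ∨ d = 2025 := by
        decide +kernel
      unfold Nat.ModEq at hF hF'
      exact key _ (Nat.mem_divisors.mpr ⟨hdvd, by norm_num⟩) (by omega) (by omega)
    rcases hd with h | h
    · exfalso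
      have hNle : ∀ g : G, ∀ n ∈ N, n • (g • z) = g • z := by
        intro g n hn
        obtain ⟨b, hb⟩ := Set.ncard_eq_one.mp h
        have hm : g⁻¹ * n * g ∈ N := by simpa using hN.conj_mem n hn g⁻¹
        have e1 : (g⁻¹ * n * g) • z ∈ O := ⟨⟨_, hm⟩, rfl⟩
        have e2 : z ∈ O := mem_orbit_self z
        rw [hb, Set.mem_singleton_iff] at e1 e2
        rw [← e2, mul_smul, mul_smul, inv_smul_eq_iff] at e1
        exact e1
      have hle : N ≤ stabilizer G z := fun n hn => by simpa using hNle 1 n hn
      haveI hN' : (N.subgroupOf (stabilizer G z)).Normal := inferInstance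
      rcases hN'.eq_bot_or_eq_top with h' | h'
      · refine hNb (le_bot_iff.mp fun n hn => ?_)
        have : (⟨n, hle hn⟩ : stabilizer G z) ∈ N.subgroupOf (stabilizer G z) := hn
        rw [h', Subgroup.mem_bot] at this
        simpa using congrArg Subtype.val this
      · have htN : t ∈ N := Subgroup.subgroupOf_eq_top.mp h' htz
        have hall : ∀ x : X, x = z := fun x => by
          obtain ⟨g, rfl⟩ := exists_smul_eq G z x
          exact htfix _ (hNle g t htN)
        have : Nat.card X ≤ 1 := Finite.card_le_one_iff_subsingleton.mpr ⟨fun a b => (hall a).trans (hall b).symm⟩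
        omega
    · intro x
      have : O = Set.univ := Set.eq_of_subset_of_ncard_le (Set.subset_univ _) (by rw [Set.ncard_univ, hX, h])
      obtain ⟨⟨n, hn⟩, e⟩ := (this ▸ Set.mem_univ x : x ∈ O)
      exact ⟨n, hn, e⟩
  refine ⟨fun N hN => ?_⟩
  by_contra hcon
  push Not at hcon
  obtain ⟨hNb, hNt⟩ := hcon
  haveI hN' : (N.subgroupOf (stabilizer G z)).Normal := inferInstance
  rcases hN'.eq_bot_or_eq_top with h | h
  · -- regular case
    have hreg : Function.Bijective fun n : N => (n : G) • z := by
      refine ⟨fun m n e => ?_, fun x => ?_⟩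
      · have hs' : (n : G)⁻¹ * m ∈ stabilizer G z := by
          rw [mem_stabilizer_iff, mul_smul, show (m : G) • z = (n : G) • z from e, inv_smul_smul]
        have : (⟨_, hs'⟩ : stabilizer G z) ∈ N.subgroupOf (stabilizer G z) := N.mul_mem (N.inv_mem n.2) m.2
        rw [h, Subgroup.mem_bot] at this
        exact (Subtype.ext (inv_mul_eq_one.mp (congrArg Subtype.val this))).symm
      · obtain ⟨n, hn, e⟩ := htrans N hN hNb x
        exact ⟨⟨n, hn⟩, e⟩
    have hN : Nat.card N = 2025 := (Nat.card_congr (Equiv.ofBijective _ hreg)).trans hX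
    let c : MulAut N := MulAut.conjNormal t
    have hc : c ^ 11 = 1 := by
      rw [← map_pow, ← ht, pow_orderOf_eq_one, map_one]
    have hfix : ∀ n : N, c n = n → n = 1 := by
      intro n hn
      have e : t * (n : G) * t⁻¹ = n := by
        rw [← MulAut.conjNormal_apply]; exact congrArg Subtype.val hn
      have h1 : t • ((n : G) • z) = (n : G) • z := by
        conv_rhs => rw [← e, mul_smul, mul_smul, show t⁻¹ • z = z by rw [inv_smul_eq_iff, htz]]
      have h2 : (fun n : N => (n : G) • z) n = (fun n : N => (n : G) • z) 1 := by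
        show (n : G) • z = ((1 : N) : G) • z
        rw [htfix _ h1, OneMemClass.coe_one, one_smul]
      exact hreg.1 h2
    -- an invariant Sylow 5-subgroup
    let σ : Equiv.Perm (Sylow 5 N) := MulAction.toPerm c
    have hσ : σ ^ 11 = 1 := by
      show (MulAction.toPermHom (MulAut N) (Sylow 5 N) c) ^ 11 = 1
      rw [← map_pow, hc, map_one]
    have hmod := card_mod_of_perm 11 σ hσ
    obtain ⟨P₀⟩ : Nonempty (Sylow 5 N) := inferInstance
    have hP : ∀ P : Sylow 5 N, Nat.card (P : Subgroup N) = 25 := fun P => by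
      rw [P.card_eq_multiplicity, hN]
      have : Nat.factorization 2025 5 = 2 := by
        rw [show (2025 : ℕ) = 5 ^ 2 * 81 by norm_num, Nat.factorization_mul (by norm_num) (by norm_num),
          Finsupp.add_apply, Nat.Prime.factorization_pow (by norm_num),
          Nat.factorization_eq_zero_of_not_dvd (by norm_num : ¬ 5 ∣ 81)]
        simp
      rw [this]
      norm_num
    have hidx : (P₀ : Subgroup N).index = 81 := by
      have := (P₀ : Subgroup N).card_mul_index
      rw [hP, hN] at this
      omega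
    have hd := P₀.card_dvd_index
    rw [hidx] at hd
    have hm := card_sylow_modEq_one 5 N
    unfold Nat.ModEq at hm hmod
    have key : ∀ d ∈ Nat.divisors 81, d % 5 = 1 → d % 11 ≠ 0 := by decide +kernel
    have hne : Nat.card (Function.fixedPoints σ) ≠ 0 := by
      intro h0
      have := key _ (Nat.mem_divisors.mpr ⟨hd, by norm_num⟩) (by omega)
      rw [h0] at hmod
      omega
    obtain ⟨⟨P, hPfix⟩⟩ : Nonempty (Function.fixedPoints σ) := (Nat.card_ne_zero.mp hne).1
    have hinvP : ∀ n ∈ (P : Subgroup N), c n ∈ (P : Subgroup N) := fun n hn => by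
      have e : c • P = P := hPfix
      have : c • n ∈ c • (P : Subgroup N) := Subgroup.smul_mem_pointwise_smul n c _ hn
      rw [← Sylow.pointwise_smul_def, e] at this
      exact this
    haveI : Finite (P : Subgroup N) := inferInstance
    let f : ↥(P : Subgroup N) → ↥(P : Subgroup N) := fun n => ⟨c n.1, hinvP n.1 n.2⟩
    have hf : Function.Injective f := fun a b e => Subtype.ext (c.injective (congrArg Subtype.val e))
    let τ : Equiv.Perm (P : Subgroup N) := Equiv.ofBijective f (Finite.injective_iff_bijective.mp hf)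
    have hτk : ∀ (k : ℕ) (n : (P : Subgroup N)), ((τ ^ k) n : N) = (c ^ k) n := by
      intro k
      induction k with
      | zero => intro n; rfl
      | succ k ih => intro n; rw [pow_succ, Equiv.Perm.mul_apply, ih, pow_succ]; rfl
    have hτ : τ ^ 11 = 1 := Equiv.ext fun n => Subtype.ext (by rw [hτk, hc]; rfl)
    have hmod' := card_mod_of_perm 11 τ hτ
    have h1 : Nat.card (Function.fixedPoints τ) = 1 := by
      have : (Function.fixedPoints τ : Set (P : Subgroup N)) = {1} := Set.eq_singleton_iff_unique_mem.mpr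
        ⟨Subtype.ext (map_one c), fun n hn => Subtype.ext (hfix _ (congrArg Subtype.val hn))⟩
      rw [this]; simp
    rw [h1, hP P] at hmod'
    exact absurd hmod' (by decide)
  · refine hNt ((Subgroup.eq_top_iff' N).mpr fun g => ?_)
    obtain ⟨n, hn, e⟩ := htrans N hN hNb (g • z)
    have hs' : n⁻¹ * g ∈ stabilizer G z := by
      rw [mem_stabilizer_iff, mul_smul, ← e, inv_smul_smul]
    have : n⁻¹ * g ∈ N := Subgroup.subgroupOf_eq_top.mp h hs'
    simpa using N.mul_mem hn this

end Cfsg.Agent.McLSimple
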